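import Cfsg.Agent.Lib.Perm.Trans.Symp
import Cfsg.Agent.Lib.Perm.Trans.PauliMax.Orth

/-!
# Two-groups of symplectic type and minus type in symplectic groups

`SpPauli f R m`: `R` is a group of isometries of the alternating form `f` on a space of dimension `2 ^ m` which spans the
matrix algebra, has squares and commutators in `{1, -1}`, order `2 ^ (1 + 2 * m)` and minus type.
-/

set_option autoImplicit false
set_option linter.all false

namespace CfsgLib.Perm.Trans.PauliMax.Symp

open scoped Matrix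
open Matrix Cfsg.Geo CfsgLib.Perm.Asch CfsgLib.Perm.Trans
open CfsgLib.Perm.Trans.Symp (isoSub mem_isoSub)

variable {ι : Type} [Fintype ι] [DecidableEq ι] {F : Type*} [Field F]

/-- the hypotheses -/
structure SpPauli (f : (ι → F) → (ι → F) → F) (R : Subgroup (GL ι F)) (m : ℕ) : Prop where
  form : IsSymplecticForm f
  two : (2 : F) ≠ 0
  iso : R ≤ isoSub f
  neg : (-1 : GL ι F) ∈ R
  sign : ∀ r ∈ R, ∀ s ∈ R, r * s = s * r ∨ r * s = -(s * r)
  square : ∀ r ∈ R, r * r = 1 ∨ r * r = -1
  span : Submodule.span F (matrixSet R) = ⊤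
  dim : Fintype.card ι = 2 ^ m
  card : Nat.card R = 2 ^ (1 + 2 * m)
  minus : IsOfMinusType m R

variable {f : (ι → F) → (ι → F) → F} {R : Subgroup (GL ι F)} {m : ℕ}

/-- `x` is `1` or `-1` -/
def IsPM (x : GL ι F) : Prop := x = 1 ∨ x = -1

theorem SpPauli.nonempty (hP : SpPauli f R m) : Nonempty ι :=
  Fintype.card_pos_iff.1 (by rw [hP.dim]; positivity)

theorem SpPauli.natCast_ne (hP : SpPauli f R m) : (Fintype.card ι : F) ≠ 0 := by
  rw [hP.dim, Nat.cast_pow]
  exact pow_ne_zero _ (by exact_mod_cast hP.two)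

theorem SpPauli.neg_one_ne (hP : SpPauli f R m) : (-1 : GL ι F) ≠ 1 := fun h => hP.two (by
  haveI := hP.nonempty
  have h' := congrFun (congrFun (congrArg (fun g : GL ι F => (g : Matrix ι ι F)) h) (Classical.arbitrary ι))
    (Classical.arbitrary ι)
  simp at h'
  linear_combination -h')

theorem SpPauli.neg_ne_self (hP : SpPauli f R m) (x : GL ι F) : -x ≠ x := fun h =>
  hP.neg_one_ne (mul_right_cancel (b := x) (by rw [neg_one_mul, one_mul, h]))

theorem SpPauli.neg_mem (hP : SpPauli f R m) {r : GL ι F} (hr : r ∈ R) : -r ∈ R := by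
  rw [← neg_one_mul]
  exact mul_mem hP.neg hr

theorem IsPM.mem (hP : SpPauli f R m) {x : GL ι F} (h : IsPM x) : x ∈ R := by
  rcases h with rfl | rfl
  exacts [R.one_mem, hP.neg]

theorem IsPM.mul {x y : GL ι F} (hx : IsPM x) (hy : IsPM y) : IsPM (x * y) := by
  rcases hx with rfl | rfl <;> rcases hy with rfl | rfl <;> simp [IsPM]

theorem IsPM.inv {x : GL ι F} (hx : IsPM x) : IsPM x⁻¹ := by rcases hx with rfl | rfl <;> simp [IsPM]

theorem IsPM.comm {x : GL ι F} (hx : IsPM x) (g : GL ι F) : g * x = x * g := by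
  rcases hx with rfl | rfl <;> simp

theorem SpPauli.inv_eq (hP : SpPauli f R m) {r : GL ι F} (hr : r ∈ R) : r⁻¹ = r ∨ r⁻¹ = -r := by
  rcases hP.square r hr with h | h
  · exact Or.inl (inv_eq_of_mul_eq_one_right h)
  · exact Or.inr (inv_eq_of_mul_eq_one_right (by rw [mul_neg, h, neg_neg]))

theorem SpPauli.mul_mul_inv (hP : SpPauli f R m) {r s : GL ι F} (hr : r ∈ R) (hs : s ∈ R) :
    r * s * r⁻¹ = s ∨ r * s * r⁻¹ = -s := by
  rcases hP.sign r hr s hs with h | h
  · exact Or.inl (by rw [h, mul_inv_cancel_right])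
  · exact Or.inr (by rw [h, neg_mul, mul_inv_cancel_right])

theorem SpPauli.scalar_pm (hP : SpPauli f R m) {g : GL ι F} (hg : g ∈ isoSub f) {c : F}
    (hc : (g : Matrix ι ι F) = c • 1) : IsPM g := by
  haveI := hP.nonempty
  have hf := hP.form
  obtain ⟨e, he⟩ : ∃ e : ι → F, e ≠ 0 := ⟨1, one_ne_zero⟩
  obtain ⟨h, hh⟩ := ((CfsgLib.Perm.Trans.Symp.isNondegenerateOn_top hf) e Submodule.mem_top he).2
  have h1 := (mem_isoSub (f := f)).1 hg e h
  rw [hc, Matrix.smul_mulVec, Matrix.smul_mulVec, Matrix.one_mulVec, Matrix.one_mulVec,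
    hf.bilinear.smul_left, hf.bilinear.smul_right] at h1
  have h2 : c * c = 1 := mul_right_cancel₀ hh.2 (by rw [one_mul, mul_assoc]; exact h1)
  rcases mul_self_eq_one_iff.1 h2 with h | h
  · exact Or.inl (Units.ext (by rw [hc, h, one_smul, Units.val_one]))
  · exact Or.inr (Units.ext (by rw [hc, h, Units.val_neg, Units.val_one, neg_one_smul]))

theorem SpPauli.scalar_of_commute (hP : SpPauli f R m) {X : Matrix ι ι F}
    (h : ∀ r ∈ R, X * r = (r : Matrix ι ι F) * X) : ∃ c : F, X = c • 1 := by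
  haveI := hP.nonempty
  have hall : ∀ Y : Matrix ι ι F, X * Y = Y * X := by
    intro Y
    have hY : Y ∈ Submodule.span F (matrixSet R) := hP.span.symm ▸ Submodule.mem_top
    induction hY using Submodule.span_induction with
    | mem y hy =>
      obtain ⟨r, hr, rfl⟩ := hy
      exact h r hr
    | zero => rw [mul_zero, zero_mul]
    | add y z _ _ hy hz => rw [mul_add, add_mul, hy, hz]
    | smul c y _ hy => rw [mul_smul_comm, smul_mul_assoc, hy]
  let j := Classical.arbitrary ι
  refine ⟨X j j, Matrix.ext fun a b => ?_⟩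
  have hab := congrFun (congrFun (hall (Matrix.single b j 1)) a) j
  have hbb := congrFun (congrFun (hall (Matrix.single b j 1)) b) j
  rw [Matrix.mul_single_apply_same, mul_one] at hab hbb
  rw [Matrix.single_mul_apply_same, one_mul] at hbb
  rcases eq_or_ne a b with rfl | hne
  · rw [hbb, Matrix.smul_apply, Matrix.one_apply_eq, smul_eq_mul, mul_one]
  · rw [hab, Matrix.single_mul_apply_of_ne _ _ _ _ _ hne, Matrix.smul_apply, Matrix.one_apply_ne hne, smul_zero]

theorem SpPauli.pm_of_commute (hP : SpPauli f R m) {g : GL ι F} (hg : g ∈ isoSub f) (h : ∀ r ∈ R, g * r = r * g) :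
    IsPM g := by
  obtain ⟨c, hc⟩ := hP.scalar_of_commute (X := (g : Matrix ι ι F)) fun r hr => by
    rw [← Units.val_mul, h r hr, Units.val_mul]
  exact hP.scalar_pm hg hc

theorem SpPauli.exists_anti (hP : SpPauli f R m) {r : GL ι F} (hr : r ∈ R) (hne : ¬ IsPM r) :
    ∃ s ∈ R, r * s = -(s * r) := by
  by_contra hcon
  push Not at hcon
  exact hne (hP.pm_of_commute (hP.iso hr) fun s hs => (hP.sign r hr s hs).resolve_right (hcon s hs))

/-- the trace of a group element as a matrix -/
abbrev tr (g : GL ι F) : F := (g : Matrix ι ι F).trace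

theorem SpPauli.trace_zero (hP : SpPauli f R m) {r : GL ι F} (hr : r ∈ R) (hne : ¬ IsPM r) : tr r = 0 := by
  obtain ⟨s, hs, hrs⟩ := hP.exists_anti hr hne
  have h1 : tr (s * r * s⁻¹) = tr r := by
    simp only [tr, Units.val_mul]
    rw [Matrix.trace_mul_cycle, Units.inv_mul, one_mul]
  rw [show s * r * s⁻¹ = -r by rw [← neg_eq_iff_eq_neg.2 hrs, neg_mul, mul_inv_cancel_right]] at h1
  simp only [tr, Units.val_neg, Matrix.trace_neg] at h1
  exact (mul_eq_zero.1 (show (2 : F) * tr r = 0 by simp only [tr]; linear_combination -h1)).resolve_left hP.two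

theorem SpPauli.trace_pm (hP : SpPauli f R m) {r : GL ι F} (hr : r ∈ R) (hne : tr r ≠ 0) : IsPM r :=
  Classical.not_not.1 fun h => hne (hP.trace_zero hr h)

theorem trace_one : tr (1 : GL ι F) = (Fintype.card ι : F) := by simp [tr]

theorem trace_neg_one : tr (-1 : GL ι F) = -(Fintype.card ι : F) := by simp [tr, Units.val_neg]

theorem SpPauli.trace_pm_ne (hP : SpPauli f R m) {r : GL ι F} (hr : IsPM r) : tr r ≠ 0 := by
  rcases hr with rfl | rfl
  · rw [trace_one]; exact hP.natCast_ne
  · rw [trace_neg_one, neg_ne_zero]; exact hP.natCast_ne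

/-- an element with non-zero coefficient at an element of the group -/
theorem SpPauli.exists_coeff (hP : SpPauli f R m) (g : GL ι F) : ∃ r ∈ R, tr (g * r) ≠ 0 := by
  by_contra hcon
  push Not at hcon
  have hall : ∀ Y : Matrix ι ι F, ((g : Matrix ι ι F) * Y).trace = 0 := by
    intro Y
    have hY : Y ∈ Submodule.span F (matrixSet R) := hP.span.symm ▸ Submodule.mem_top
    induction hY using Submodule.span_induction with
    | mem y hy =>
      obtain ⟨r, hr, rfl⟩ := hy
      have := hcon r hr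
      rwa [tr, Units.val_mul] at this
    | zero => rw [mul_zero, Matrix.trace_zero]
    | add y z _ _ hy hz => rw [mul_add, Matrix.trace_add, hy, hz, add_zero]
    | smul c y _ hy => rw [mul_smul_comm, Matrix.trace_smul, hy, smul_zero]
  have h1 := hall ((g⁻¹ : GL ι F) : Matrix ι ι F)
  rw [Units.mul_inv, Matrix.trace_one] at h1
  exact hP.natCast_ne h1

/-- what fixes every element modulo the centre is in the group -/
theorem SpPauli.mem_of_fix (hP : SpPauli f R m) {g : GL ι F} (hg : g ∈ isoSub f)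
    (hfix : ∀ x ∈ R, g * x * g⁻¹ = x ∨ g * x * g⁻¹ = -x) : g ∈ R := by
  obtain ⟨r, hr, hne⟩ := hP.exists_coeff g
  have hcomm : ∀ x ∈ R, g * r * x = x * (g * r) := by
    intro x hx
    have hconj : tr (x * (g * r) * x⁻¹) = tr (g * r) := by
      simp only [tr, Units.val_mul]
      rw [Matrix.trace_mul_cycle, Units.inv_mul, one_mul]
    have hgx : x * g = g * x ∨ x * g = -(g * x) := by
      rcases hfix x hx with h | h <;> rw [mul_inv_eq_iff_eq_mul] at h
      · exact Or.inl h.symm
      · rw [neg_mul] at h; exact Or.inr (by rw [h, neg_neg])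
    rcases hgx with h | h <;> rcases hP.sign x hx r hr with h' | h'
    · rw [← mul_assoc x g r, h, mul_assoc g x r, h', ← mul_assoc]
    · exfalso
      rw [← mul_assoc x g r, h, mul_assoc g x r, h', mul_neg, neg_mul, ← mul_assoc, mul_inv_cancel_right] at hconj
      simp only [tr, Units.val_neg, Matrix.trace_neg] at hconj
      exact hne ((mul_eq_zero.1 (show (2 : F) * tr (g * r) = 0 by simp only [tr]; linear_combination -hconj)).resolve_left hP.two)
    · exfalso
      rw [← mul_assoc x g r, h, neg_mul, mul_assoc g x r, h', ← mul_assoc, neg_mul, mul_inv_cancel_right] at hconj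
      simp only [tr, Units.val_neg, Matrix.trace_neg] at hconj
      exact hne ((mul_eq_zero.1 (show (2 : F) * tr (g * r) = 0 by simp only [tr]; linear_combination -hconj)).resolve_left hP.two)
    · rw [← mul_assoc x g r, h, neg_mul, mul_assoc g x r, h', mul_neg, neg_neg, ← mul_assoc]
  have h1 := hP.pm_of_commute (mul_mem hg (hP.iso hr)) hcomm
  have h2 := mul_mem (h1.mem hP) (inv_mem hr)
  rwa [mul_inv_cancel_right] at h2

/-- a conjugate of a non-central element negates something it fixes -/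
theorem SpPauli.negates (hP : SpPauli f R m) [Finite F] {r : GL ι F} (hr : r ∈ R) (hne : ¬ IsPM r) (h : GL ι F)
    (hv : ∀ x ∈ R, (h * r * h⁻¹) * x * (h * r * h⁻¹)⁻¹ ∈ R) :
    ∃ y ∈ R, (h * r * h⁻¹) * y * (h * r * h⁻¹)⁻¹ = -y := by
  classical
  haveI : Finite (Matrix ι ι F) := inferInstanceAs (Finite (ι → ι → F))
  haveI : Finite (GL ι F) := Finite.of_injective _ Units.val_injective
  haveI : Fintype R := Fintype.ofFinite _
  set v := h * r * h⁻¹ with hvdef
  by_contra hcon
  push Not at hcon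
  have htrv : tr v = 0 := by
    simp only [tr, hvdef, Units.val_mul]
    rw [Matrix.trace_mul_cycle, Units.inv_mul, one_mul]
    exact hP.trace_zero hr hne
  -- the average
  let X : Matrix ι ι F := ∑ x : R, ((x : GL ι F) * v * (x : GL ι F)⁻¹ : GL ι F)
  obtain ⟨c, hc⟩ := hP.scalar_of_commute (X := X) (by
    intro g hg
    show (∑ x : R, _) * (g : Matrix ι ι F) = (g : Matrix ι ι F) * ∑ x : R, _
    rw [Finset.sum_mul, Finset.mul_sum]
    refine Fintype.sum_equiv (Equiv.mulLeft (⟨g, hg⟩ : R)⁻¹) _ _ fun x => ?_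
    simp only [Equiv.coe_mulLeft, Subgroup.coe_mul, Subgroup.coe_inv, _root_.mul_inv_rev, inv_inv, Units.val_mul]
    simp only [← mul_assoc, Units.mul_inv, one_mul])
  have hc0 : X = 0 := by
    have h1 := congrArg Matrix.trace hc
    rw [Matrix.trace_sum, Finset.sum_eq_zero, Matrix.trace_smul, Matrix.trace_one, smul_eq_mul] at h1
    · rw [hc, (mul_eq_zero.1 h1.symm).resolve_right hP.natCast_ne, zero_smul]
    · intro x _
      rw [show ((x : GL ι F) * v * (x : GL ι F)⁻¹ : GL ι F) = ((x : GL ι F) * v * (x : GL ι F)⁻¹) from rfl]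
      simp only [Units.val_mul]
      rw [Matrix.trace_mul_cycle, Units.inv_mul, one_mul]
      exact htrv
  -- its coefficient at `v`
  have hsum := congrArg (fun Y => (Y * ((v⁻¹ : GL ι F) : Matrix ι ι F)).trace) hc0
  simp only [X, Finset.sum_mul, Matrix.trace_sum, zero_mul, Matrix.trace_zero] at hsum
  let S : Finset R := Finset.univ.filter fun x : R => v * x * v⁻¹ = x
  have hterm : ∀ x : R, ((((x : GL ι F) * v * (x : GL ι F)⁻¹ : GL ι F) : Matrix ι ι F) *
      ((v⁻¹ : GL ι F) : Matrix ι ι F)).trace = if x ∈ S then (Fintype.card ι : F) else 0 := by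
    intro x
    rw [← Units.val_mul, show (x : GL ι F) * v * (x : GL ι F)⁻¹ * v⁻¹ = x * (v * x * v⁻¹)⁻¹ by group]
    have hmem := hv x x.2
    by_cases hx : v * (x : GL ι F) * v⁻¹ = x
    · rw [if_pos (by simp [S, hx]), hx, mul_inv_cancel]
      exact trace_one
    · rw [if_neg (by simp [S, hx])]
      refine hP.trace_zero (mul_mem x.2 (inv_mem hmem)) fun hpm => ?_
      rcases hpm with e | e
      · exact hx (mul_inv_eq_one.1 e).symm
      · refine hcon x x.2 ?_
        have e' := mul_inv_eq_iff_eq_mul.1 e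
        rw [neg_one_mul] at e'
        exact neg_eq_iff_eq_neg.1 e'.symm
  rw [Finset.sum_congr rfl fun x _ => hterm x, ← Finset.sum_filter, Finset.sum_const, nsmul_eq_mul] at hsum
  have hScard : ∃ k, (Finset.univ.filter fun x : R => x ∈ S).card = 2 ^ k := by
    let T : Subgroup R :=
      { carrier := {x | v * x * v⁻¹ = (x : GL ι F)}
        one_mem' := by simp
        mul_mem' := fun {a b} (ha : v * a * v⁻¹ = (a : GL ι F)) (hb : v * b * v⁻¹ = (b : GL ι F)) => by
          show v * ((a : GL ι F) * b) * v⁻¹ = (a : GL ι F) * b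
          rw [show v * ((a : GL ι F) * b) * v⁻¹ = v * a * v⁻¹ * (v * b * v⁻¹) by group, ha, hb]
        inv_mem' := fun {a} (ha : v * a * v⁻¹ = (a : GL ι F)) => by
          show v * (a : GL ι F)⁻¹ * v⁻¹ = (a : GL ι F)⁻¹
          rw [show v * (a : GL ι F)⁻¹ * v⁻¹ = (v * a * v⁻¹)⁻¹ by group, ha] }
    obtain ⟨k, -, hk⟩ := (Nat.dvd_prime_pow Nat.prime_two).1 (hP.card ▸ Subgroup.card_subgroup_dvd_card T)
    refine ⟨k, ?_⟩
    rw [← hk, Nat.card_eq_fintype_card, ← Fintype.card_coe]
    exact Fintype.card_congr (Equiv.subtypeEquivRight fun x => by simp [S, T])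
  obtain ⟨k, hk⟩ := hScard
  rw [hk, Nat.cast_pow] at hsum
  exact (mul_ne_zero (pow_ne_zero _ (by exact_mod_cast hP.two)) hP.natCast_ne) hsum

end CfsgLib.Perm.Trans.PauliMax.Symp
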