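import Cfsg.Agent.Lib.Perm.Trans.PauliMax.Symp.SymType
import Cfsg.Agent.Lib.Perm.Trans.PauliMax.Fusion
import Cfsg.Agent.Lib.Perm.Trans.KleinFour.SymType
import Cfsg.Agent.Lib.Perm.Elusive.SympPairs

/-!
# Normalisers of two-groups of minus type are maximal in symplectic groups
-/

set_option autoImplicit false
set_option linter.all false

namespace CfsgLib.Perm.Trans.PauliMax.Symp

open scoped Matrix
open Matrix Cfsg.Geo CfsgLib.Perm.Asch CfsgLib.Perm.Trans
open scoped Classical
open CfsgLib.Perm.Trans.Symp (isoSub mem_isoSub)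

variable {F : Type*} [Field F]

/-- **Transfer of the four-dimensional case.** -/
theorem good_two [Fintype F] (hodd : Odd (Fintype.card F)) (hp : (Fintype.card F).Prime) : Good F 2 := by
  intro ι _ _ f R hP M hN hM
  haveI : Finite (Matrix ι ι F) := inferInstanceAs (Finite (ι → ι → F))
  haveI : Finite (GL ι F) := Finite.of_injective _ Units.val_injective
  haveI : Finite (GL KleinFour.I4 F) := inferInstance
  have hf := hP.form
  obtain ⟨e⟩ : Nonempty (ι ≃ Fin 2 ⊕ Fin 2) := ⟨Fintype.equivOfCardEq (by rw [hP.dim]; simp)⟩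
  obtain ⟨w, hw1, hw2, hw3, hw4⟩ := CfsgLib.Perm.Elusive.exists_hyperbolic_basis hf e
  let T : (Fin 2 ⊕ Fin 2 → F) ≃ₗ[F] (ι → F) := w.equivFun.symm
  obtain ⟨A, hA⟩ : ∃ A, A = LinearMap.toMatrix' T.toLinearMap := ⟨_, rfl⟩
  obtain ⟨B, hB⟩ : ∃ B, B = LinearMap.toMatrix' T.symm.toLinearMap := ⟨_, rfl⟩
  have hAB : A * B = 1 := by
    rw [hA, hB, ← LinearMap.toMatrix'_comp, LinearEquiv.comp_symm, LinearMap.toMatrix'_id]
  have hBA : B * A = 1 := by
    rw [hA, hB, ← LinearMap.toMatrix'_comp, LinearEquiv.symm_comp, LinearMap.toMatrix'_id]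
  have hform : ∀ x y, f (A *ᵥ x) (A *ᵥ y) = Cfsg.sympForm 2 F x y := by
    intro x y
    have hAx : ∀ z, A *ᵥ z = ∑ i, z i • w i := fun z => by
      rw [hA, LinearMap.toMatrix'_mulVec]
      exact Module.Basis.equivFun_symm_apply w z
    rw [hAx, hAx]
    show (CfsgLib.Perm.Elusive.bilinMap hf.bilinear) (∑ i, x i • w i) (∑ i, y i • w i) = _
    simp only [map_sum, map_smul, LinearMap.sum_apply, LinearMap.smul_apply, smul_eq_mul]
    simp only [CfsgLib.Perm.Elusive.bilinMap, LinearMap.mk₂_apply, Fintype.sum_sum_type, Fin.sum_univ_two,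
      hw1, hw2, hw3, hw4]
    simp [Cfsg.sympForm, Matrix.J, dotProduct, Matrix.mulVec, Fintype.sum_sum_type, Fin.sum_univ_two, Matrix.one_apply]
    ring
  let φ : GL KleinFour.I4 F →* GL ι F :=
    { toFun := fun g =>
        { val := A * (g : Matrix KleinFour.I4 KleinFour.I4 F) * B
          inv := A * ((g⁻¹ : GL KleinFour.I4 F) : Matrix KleinFour.I4 KleinFour.I4 F) * B
          val_inv := by
            rw [show A * (g : Matrix KleinFour.I4 KleinFour.I4 F) * B * (A * ((g⁻¹ : GL KleinFour.I4 F) : Matrix KleinFour.I4 KleinFour.I4 F) * B) =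
              A * ((g : Matrix KleinFour.I4 KleinFour.I4 F) * (B * A) * ((g⁻¹ : GL KleinFour.I4 F) : Matrix KleinFour.I4 KleinFour.I4 F)) * B by
                simp only [Matrix.mul_assoc], hBA, Matrix.mul_one, Units.mul_inv, Matrix.mul_one, hAB]
          inv_val := by
            rw [show A * ((g⁻¹ : GL KleinFour.I4 F) : Matrix KleinFour.I4 KleinFour.I4 F) * B * (A * (g : Matrix KleinFour.I4 KleinFour.I4 F) * B) =
              A * (((g⁻¹ : GL KleinFour.I4 F) : Matrix KleinFour.I4 KleinFour.I4 F) * (B * A) * (g : Matrix KleinFour.I4 KleinFour.I4 F)) * B by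
                simp only [Matrix.mul_assoc], hBA, Matrix.mul_one, Units.inv_mul, Matrix.mul_one, hAB] }
      map_one' := Units.ext (by simp only [Units.val_one, Matrix.mul_one, hAB])
      map_mul' := fun g h => Units.ext (by
        simp only [Units.val_mul]
        rw [show A * (g : Matrix KleinFour.I4 KleinFour.I4 F) * B * (A * (h : Matrix KleinFour.I4 KleinFour.I4 F) * B) =
          A * ((g : Matrix KleinFour.I4 KleinFour.I4 F) * (B * A) * (h : Matrix KleinFour.I4 KleinFour.I4 F)) * B by simp only [Matrix.mul_assoc], hBA,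
          Matrix.mul_one]) }
  have hφv : ∀ g, (φ g : Matrix ι ι F) = A * (g : Matrix KleinFour.I4 KleinFour.I4 F) * B := fun g => rfl
  let ψ : GL ι F → GL KleinFour.I4 F := fun g =>
    { val := B * (g : Matrix ι ι F) * A
      inv := B * ((g⁻¹ : GL ι F) : Matrix ι ι F) * A
      val_inv := by
        rw [show B * (g : Matrix ι ι F) * A * (B * ((g⁻¹ : GL ι F) : Matrix ι ι F) * A) =
          B * ((g : Matrix ι ι F) * (A * B) * ((g⁻¹ : GL ι F) : Matrix ι ι F)) * A by simp only [Matrix.mul_assoc],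
          hAB, Matrix.mul_one, Units.mul_inv, Matrix.mul_one, hBA]
      inv_val := by
        rw [show B * ((g⁻¹ : GL ι F) : Matrix ι ι F) * A * (B * (g : Matrix ι ι F) * A) =
          B * (((g⁻¹ : GL ι F) : Matrix ι ι F) * (A * B) * (g : Matrix ι ι F)) * A by simp only [Matrix.mul_assoc],
          hAB, Matrix.mul_one, Units.inv_mul, Matrix.mul_one, hBA] }
  have hsurj : ∀ g, φ (ψ g) = g := fun g => Units.ext (by
    show A * (B * (g : Matrix ι ι F) * A) * B = _
    rw [show A * (B * (g : Matrix ι ι F) * A) * B = (A * B) * (g : Matrix ι ι F) * (A * B) by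
      simp only [Matrix.mul_assoc], hAB, Matrix.one_mul, Matrix.mul_one])
  have hinj : Function.Injective φ := fun g h e => Units.ext (by
    have h1 := congrArg (fun z : GL ι F => B * (z : Matrix ι ι F) * A) e
    simp only [hφv] at h1
    rwa [show B * (A * (g : Matrix KleinFour.I4 KleinFour.I4 F) * B) * A = (B * A) * (g : Matrix KleinFour.I4 KleinFour.I4 F) * (B * A) by
      simp only [Matrix.mul_assoc], show B * (A * (h : Matrix KleinFour.I4 KleinFour.I4 F) * B) * A = (B * A) * (h : Matrix KleinFour.I4 KleinFour.I4 F) * (B * A) by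
      simp only [Matrix.mul_assoc], hBA, Matrix.one_mul, Matrix.one_mul, Matrix.mul_one, Matrix.mul_one] at h1)
  have hiso : ∀ g, φ g ∈ isoSub f ↔ g ∈ isoSub (Cfsg.sympForm 2 F) := by
    intro g
    rw [mem_isoSub, mem_isoSub]
    constructor
    · intro h x y
      have h1 := h (A *ᵥ x) (A *ᵥ y)
      rwa [hφv, Matrix.mulVec_mulVec, Matrix.mulVec_mulVec, Matrix.mul_assoc, hBA, Matrix.mul_one,
        ← Matrix.mulVec_mulVec, ← Matrix.mulVec_mulVec, hform, hform] at h1
    · intro h x y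
      rw [hφv, ← Matrix.mulVec_mulVec, ← Matrix.mulVec_mulVec, ← Matrix.mulVec_mulVec, ← Matrix.mulVec_mulVec, hform, h,
        ← hform, Matrix.mulVec_mulVec, Matrix.mulVec_mulVec, hAB, Matrix.one_mulVec, Matrix.one_mulVec]
  set R0 := R.comap φ with hR0
  have hφneg : φ (-1) = -1 := Units.ext (by
    rw [hφv, Units.val_neg, Units.val_neg, Units.val_one, Units.val_one, Matrix.mul_neg, Matrix.neg_mul, Matrix.mul_one,
      hAB])
  let eR : R0 ≃* R :=
    { toFun := fun g => ⟨φ g, g.2⟩
      invFun := fun g => ⟨ψ g, by show φ (ψ g) ∈ R; rw [hsurj]; exact g.2⟩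
      left_inv := fun g => Subtype.ext (hinj (hsurj _))
      right_inv := fun g => Subtype.ext (hsurj _)
      map_mul' := fun a b => Subtype.ext (map_mul φ _ _) }
  have hP0 : SpPauli (Cfsg.sympForm 2 F) R0 2 := by
    refine ⟨CfsgLib.Perm.Trans.Symp.isSymplecticForm_sympForm, hP.two, fun g hg => (hiso g).1 (hP.iso hg), ?_, ?_, ?_, ?_,
      by simp, ?_, ?_⟩
    · show φ (-1) ∈ R
      rw [hφneg]; exact hP.neg
    · intro r hr s hs
      refine (hP.sign _ hr _ hs).imp (fun h => hinj ?_) fun h => hinj ?_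
      · rw [map_mul, map_mul, h]
      · rw [map_mul, h, ← neg_one_mul (s * r), map_mul, hφneg, map_mul, neg_one_mul]
    · intro r hr
      refine (hP.square _ hr).imp (fun h => hinj ?_) fun h => hinj ?_
      · rw [map_mul, h, map_one]
      · rw [map_mul, h, hφneg]
    · refine Submodule.eq_top_iff'.2 fun X => ?_
      have hX : A * X * B ∈ Submodule.span F (matrixSet R) := hP.span.symm ▸ Submodule.mem_top
      have key : ∀ Y ∈ Submodule.span F (matrixSet R), B * Y * A ∈ Submodule.span F (matrixSet R0) := by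
        intro Y hY
        induction hY using Submodule.span_induction with
        | mem y hy =>
          obtain ⟨r, hr, rfl⟩ := hy
          exact Submodule.subset_span ⟨ψ r, by show φ (ψ r) ∈ R; rw [hsurj]; exact hr, rfl⟩
        | zero => rw [Matrix.mul_zero, Matrix.zero_mul]; exact Submodule.zero_mem _
        | add y z _ _ hy hz => rw [Matrix.mul_add, Matrix.add_mul]; exact Submodule.add_mem _ hy hz
        | smul c y _ hy => rw [Matrix.mul_smul, Matrix.smul_mul]; exact Submodule.smul_mem _ c hy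
      have := key _ hX
      rwa [show B * (A * X * B) * A = (B * A) * X * (B * A) by simp only [Matrix.mul_assoc], hBA, Matrix.one_mul,
        Matrix.mul_one] at this
    · rw [Nat.card_congr eR.toEquiv, hP.card]
    · intro S hS hsq
      rw [Nat.card_congr (Subgroup.equivMapOfInjective S eR.toMonoidHom eR.injective).toEquiv]
      refine hP.minus _ ?_ ?_
      · exact ⟨⟨fun a b => by
          obtain ⟨_, a, ha, rfl⟩ := a
          obtain ⟨_, b, hb, rfl⟩ := b
          refine Subtype.ext ?_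
          show eR.toMonoidHom a * eR.toMonoidHom b = eR.toMonoidHom b * eR.toMonoidHom a
          rw [← map_mul, ← map_mul, show a * b = b * a from congrArg Subtype.val (hS.is_comm.comm ⟨a, ha⟩ ⟨b, hb⟩)]⟩⟩
      · rintro _ ⟨a, ha, rfl⟩
        rw [← map_mul, hsq a ha, map_one]
  have hmax := KleinFour.normalizer_symplectic_maximal hodd hp (hP0.isSymplecticType le_rfl) hP0.absIrred hP0.iso
    (by rw [hP0.card]; norm_num) hP0.card_center hP0.minus
  have hnorm : ∀ g, g ∈ subgroupNormalizer R0 ↔ φ g ∈ subgroupNormalizer R := by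
    intro g
    constructor
    · intro hg
      refine mem_normalizer_of_maps fun r hr => ?_
      have h1 := (Subgroup.mem_normalizer_iff.1 hg (ψ r)).1 (show φ (ψ r) ∈ R by rw [hsurj]; exact hr)
      have h2 : φ (g * ψ r * g⁻¹) ∈ R := h1
      rwa [map_mul, map_mul, map_inv, hsurj] at h2
    · intro hg
      refine mem_normalizer_of_maps fun r hr => ?_
      show φ (g * r * g⁻¹) ∈ R
      rw [map_mul, map_mul, map_inv]
      exact (Subgroup.mem_normalizer_iff.1 hg (φ r)).1 hr
  rcases hmax.2 (M.comap φ ⊓ Cfsg.spGL 2 F) (fun g hg => ⟨hN ⟨(hnorm g).1 hg.1, (hiso g).2 hg.2⟩, hg.2⟩)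
    inf_le_right with h | h
  · refine Or.inl fun g hg => ?_
    have h1 : ψ g ∈ M.comap φ ⊓ Cfsg.spGL 2 F := ⟨by show φ (ψ g) ∈ M; rw [hsurj]; exact hg,
      (hiso _).1 (by rw [hsurj]; exact hM hg)⟩
    rw [h] at h1
    have h2 := (hnorm _).1 h1.1
    rwa [hsurj] at h2
  · refine Or.inr (le_antisymm hM fun g hg => ?_)
    have h1 : ψ g ∈ Cfsg.spGL 2 F := (hiso _).1 (by rw [hsurj]; exact hg)
    rw [← h] at h1
    have h2 : φ (ψ g) ∈ M := h1.1
    rwa [hsurj] at h2

section
variable [Finite F] {ι : Type} [Fintype ι] [DecidableEq ι]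
variable {f : (ι → F) → (ι → F) → F} {R : Subgroup (GL ι F)} {m : ℕ}

set_option maxHeartbeats 1600000 in
/-- **The induction step.** -/
theorem good_succ (hm : 2 ≤ m) (hG : Good F m) : Good F (m + 1) := by
  intro ι _ _ f R hP M hN hM
  by_cases hne : M = isoSub f
  · exact Or.inr hne
  refine Or.inl fun h hh => ?_
  haveI : Finite (Matrix ι ι F) := inferInstanceAs (Finite (ι → ι → F))
  haveI : Finite (GL ι F) := Finite.of_injective _ Units.val_injective
  have hm3 : 3 ≤ m + 1 := by omega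
  have hC : CenInv f R M := fun u hu hpm huu k hk hc => cen_invol hP hG hm hN hM hne hu hpm huu hk hc
  have hRM : R ≤ M := (R_le_NN hP).trans hN
  set R' := R.subgroupOf M with hR'
  let z : M := ⟨-1, hRM hP.neg⟩
  have hInZ : ∀ x : M, Fusion.InZ z x ↔ IsPM (x : GL ι F) := fun x =>
    or_congr Subtype.ext_iff Subtype.ext_iff
  have hnormM : ∀ k : M, (k : GL ι F) ∈ NN f R → k ∈ Subgroup.normalizer (R' : Set M) := fun k hk =>
    Subgroup.mem_normalizer_iff.2 fun x => by
      rw [hR', Subgroup.mem_subgroupOf, Subgroup.mem_subgroupOf]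
      exact Subgroup.mem_normalizer_iff.1 hk.1 x
  have hconjM : ∀ k : M, k ∈ Subgroup.normalizer (R' : Set M) → ∀ x ∈ R, (k : GL ι F) * x * (k : GL ι F)⁻¹ ∈ R :=
    fun k hk x hx => by
      have := (Subgroup.mem_normalizer_iff.1 hk ⟨x, hRM hx⟩).1 (show x ∈ R from hx)
      exact this
  have hfix : ∀ g y : M, Fusion.Fixes z g y →
      (g : GL ι F) * y * (g : GL ι F)⁻¹ = y ∨ (g : GL ι F) * y * (g : GL ι F)⁻¹ = -(y : GL ι F) := by
    intro g y hf
    rcases (hInZ _).1 hf with e | e
    · exact Or.inl (mul_inv_eq_one.1 e)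
    · exact Or.inr (by rw [← neg_one_mul]; exact mul_inv_eq_iff_eq_mul.1 e)
  have hD : Fusion.Data R' z := by
    refine ⟨hP.neg, fun e => hP.neg_one_ne (congrArg Subtype.val e), Subtype.ext (by simp [z]),
      fun k => Subtype.ext (by simp [z]), fun r hr => (hInZ _).2 (hP.square (r : GL ι F) hr), fun r hr s hs => ?_,
      fun r hr hc => (hInZ _).2 (hP.pm_of_commute (hP.iso hr) fun x hx =>
        congrArg Subtype.val (hc ⟨x, hRM hx⟩ hx)), fun y hy hz k hk => hnormM k ?_, ?_, ?_, ?_⟩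
    · rw [Fusion.Fixes, hInZ]
      rcases hP.mul_mul_inv (r := (r : GL ι F)) (s := (s : GL ι F)) hr hs with e | e
      · left
        show (r : GL ι F) * s * (r : GL ι F)⁻¹ * (s : GL ι F)⁻¹ = 1
        rw [e, mul_inv_cancel]
      · right
        show (r : GL ι F) * s * (r : GL ι F)⁻¹ * (s : GL ι F)⁻¹ = -1
        rw [e, neg_mul, mul_inv_cancel]
    · have hy0 : ¬ IsPM (y : GL ι F) := fun e => hz ((hInZ _).2 e)
      rcases hP.square (y : GL ι F) hy with e | e
      · exact hC _ hy hy0 e _ k.2 (hfix k y hk)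
      · exact cen_neg hP hm3 hN hC hy e k.2 (hfix k y hk)
    · intro w hw w' hw' hn hn' hsq
      obtain ⟨k, hk, hkw⟩ := exists_conj (w := (w : GL ι F)) (w' := (w' : GL ι F)) hP hm3 hw hw' (fun e => hn ((hInZ _).2 e)) (fun e => hn' ((hInZ _).2 e))
        (congrArg Subtype.val hsq)
      refine ⟨⟨k, hN hk⟩, hnormM _ hk, (hInZ _).2 ?_⟩
      show IsPM (k * (w : GL ι F) * k⁻¹ * (w' : GL ι F)⁻¹)
      rcases hkw with e | e <;> rw [e]
      · exact Or.inl (mul_inv_cancel _)
      · exact Or.inr (by rw [neg_mul, mul_inv_cancel])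
    · intro r hr hz k hk hnot
      obtain ⟨y, hy, e⟩ := hP.negates (r := (r : GL ι F)) hr (fun e => hz ((hInZ _).2 e)) (k : GL ι F) (hconjM (k * r * k⁻¹) hk)
      refine ⟨⟨y, hRM hy⟩, hy, Subtype.ext ?_⟩
      show (k : GL ι F) * r * (k : GL ι F)⁻¹ * y * ((k : GL ι F) * r * (k : GL ι F)⁻¹)⁻¹ = y * -1
      rw [e, mul_neg_one]
    · intro g hg
      exact hP.mem_of_fix (hM g.2) fun x hx => hfix g ⟨x, hRM hx⟩ (hg ⟨x, hRM hx⟩ hx)
  have hS := space hP
  have h16 := card_bar_ge hP (by omega)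
  obtain ⟨pa, ha, -, -⟩ := Orth.exists_nonsing_perp hS h16 0 0
  obtain ⟨pr, hr0, hrq⟩ : ∃ r, r ≠ 0 ∧ barQ hP r = 0 := by
    obtain ⟨y, hy⟩ := hS.nondeg pa (hS.ne_zero ha)
    rcases Orth.z2 (barQ hP y) with h | h
    · exact ⟨y, fun e => by rw [e, hS.bz] at hy; exact zero_ne_one hy, h⟩
    · obtain ⟨r, hr0, hrq, -, -⟩ := Orth.exists_sing hS h16 ha h hy
      exact ⟨r, hr0, hrq⟩
  obtain ⟨a, rfl⟩ := mk_surjective hP pa
  obtain ⟨b, rfl⟩ := mk_surjective hP pr
  have ha' := (barQ_one_iff hP a).1 ha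
  have hb' := (barQ_zero_iff hP b).1 hrq
  have hboth : ∀ r ∈ R', ¬ Fusion.InZ z r → ∃ u ∈ R', ¬ Fusion.InZ z u ∧ u * u ≠ r * r := by
    intro r hr _
    rcases hP.square (r : GL ι F) hr with e | e
    · refine ⟨⟨a, hRM a.2⟩, a.2, fun h => hS.ne_zero ha ((mk_eq_zero hP).2 ((hInZ _).1 h)), fun h => hP.neg_one_ne ?_⟩
      have h' : (a : GL ι F) * a = (r : GL ι F) * r := congrArg Subtype.val h
      rw [← ha', h', e]
    · refine ⟨⟨b, hRM b.2⟩, b.2, fun h => hr0 ((mk_eq_zero hP).2 ((hInZ _).1 h)), fun h => hP.neg_one_ne ?_⟩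
      have h' : (b : GL ι F) * b = (r : GL ι F) * r := congrArg Subtype.val h
      exact (e.symm.trans h'.symm).trans hb'
  have hcard : 16 ≤ Nat.card R' := by
    rw [hR', Nat.card_congr (Subgroup.subgroupOfEquivOfLe hRM).toEquiv, hP.card]
    calc 16 = 2 ^ 4 := by norm_num
      _ ≤ 2 ^ (1 + 2 * (m + 1)) := Nat.pow_le_pow_right (by norm_num) (by omega)
  exact mem_normalizer_of_maps (hconjM _ (Fusion.normal hD hcard hboth ⟨h, hh⟩))

end

/-- the statement holds in every dimension `2 ^ m`, `m ≥ 2` -/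
theorem good [Fintype F] (hodd : Odd (Fintype.card F)) (hp : (Fintype.card F).Prime) : ∀ m, 2 ≤ m → Good F m := by
  intro m hm
  induction m, hm using Nat.le_induction with
  | base => exact good_two hodd hp
  | succ m hm ih => exact good_succ hm ih

/-- **Normalisers of two-groups of minus type are maximal.** -/
theorem sp_pauli_maximal [Fintype F] {ι : Type} [Fintype ι] [DecidableEq ι] {f : (ι → F) → (ι → F) → F}
    {R : Subgroup (GL ι F)} {k p : ℕ} (hf : IsSymplecticForm f) (h8 : 5 ≤ Fintype.card ι) (hp : p.Prime)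
    (hodd : Odd p) (hcardF : Fintype.card F = p) (hR : IsSymplecticTypeGroup 2 R)
    (hirr : ActsAbsolutelyIrreducibly (matrixSet R)) (hiso : R ≤ isoSub f)
    (hcardR : Nat.card R = 2 ^ (1 + 2 * k)) (hZ : Nat.card (Subgroup.center R) = 2) (hminus : IsOfMinusType k R) :
    IsMaximalIn (isoSub f) (subgroupNormalizer R ⊓ isoSub f) := by
  subst hcardF
  have h2 : (2 : F) ≠ 0 := CfsgLib.Perm.Asch.two_ne_zero_of_odd hodd
  haveI : Nonempty ι := Fintype.card_pos_iff.1 (by omega)
  haveI : Finite (Matrix ι ι F) := inferInstanceAs (Finite (ι → ι → F))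
  haveI : Finite (GL ι F) := Finite.of_injective _ Units.val_injective
  have hP := SpPauli.of_data hf h2 hR hirr hiso hcardR hZ hminus
  have hk : 2 ≤ k := by
    by_contra h
    rw [hP.dim] at h8
    interval_cases k <;> omega
  have hproper : ¬ isoSub f ≤ subgroupNormalizer R := by
    intro hle
    obtain ⟨x, hx, hxpm⟩ := exists_not_pm hP (by omega)
    have hRtop : R = isoSub f := normal_eq_isoSub hf h2 (by omega) hiso
      (fun g hg r hr => (Subgroup.mem_normalizer_iff.1 (hle hg) r).1 hr) hx fun ⟨c, hc⟩ => hxpm (hP.scalar_pm (hiso hx) hc)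
    obtain ⟨u, hu⟩ : ∃ u : ι → F, u ≠ 0 := ⟨1, one_ne_zero⟩
    obtain ⟨y, hy⟩ := (hf.nondegenerate u hu).2
    have ht : CfsgLib.Perm.Trans.Symp.stv hf u 1 ∈ R := hRtop.symm ▸ CfsgLib.Perm.Trans.Symp.stv_iso hf u 1
    have hpm := hP.square _ ht
    rw [CfsgLib.Perm.Trans.Symp.stv_mul] at hpm
    rcases hpm with e | e
    · have h1 := congrArg (fun g : GL ι F => (g : Matrix ι ι F) *ᵥ y) e
      simp only [CfsgLib.Perm.Trans.Symp.stv_mulVec, Units.val_one, Matrix.one_mulVec, add_eq_left, smul_eq_zero,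
        mul_eq_zero, one_add_one_eq_two, h2, hu, false_or, or_false] at h1
      exact CfsgLib.Perm.Trans.Symp.swap_ne hf hy h1
    · have h1 := congrArg (fun g : GL ι F => (g : Matrix ι ι F) *ᵥ u) e
      simp only [CfsgLib.Perm.Trans.Symp.stv_mulVec, hf.alternating, mul_zero, zero_smul, add_zero, Units.val_neg,
        Units.val_one, Matrix.neg_mulVec, Matrix.one_mulVec] at h1
      exact hu ((smul_eq_zero.1 (show (2 : F) • u = 0 by rw [two_smul]; nth_rw 1 [h1]; exact neg_add_cancel u)).resolve_left h2)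
  refine ⟨lt_of_le_of_ne inf_le_right fun e => hproper (e ▸ inf_le_left), fun M hN hM => ?_⟩
  rcases good hodd hp k hk ι f R hP M hN hM with h | h
  · exact Or.inl (le_antisymm (le_inf h hM) hN)
  · exact Or.inr h

end CfsgLib.Perm.Trans.PauliMax.Symp
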