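import Cfsg.Agent.Lib.Perm.Trans.SympMax

/-!
# A non-central normal subgroup of a symplectic group is everything
-/

set_option autoImplicit false
set_option linter.all false

namespace CfsgLib.Perm.Trans.PauliMax.Symp

open scoped Matrix
open Matrix Cfsg.Geo CfsgLib.Perm.Asch CfsgLib.Perm.Trans CfsgLib.Perm.Trans.Symp

variable {ι : Type} [Fintype ι] [DecidableEq ι] {F : Type*} [Field F]
variable {f : (ι → F) → (ι → F) → F} (hf : IsSymplecticForm f)
include hf

theorem exists_sep {u v : ι → F} (hu : u ≠ 0) (hv : ∀ c : F, v ≠ c • u) : ∃ z, f u z = 0 ∧ f v z = 1 := by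
  by_contra hcon
  push Not at hcon
  have h0 : ∀ z, f u z = 0 → f v z = 0 := fun z hz => by
    by_contra h
    exact hcon ((f v z)⁻¹ • z) (by rw [hf.bilinear.smul_right, hz, mul_zero])
      (by rw [hf.bilinear.smul_right, inv_mul_cancel₀ h])
  obtain ⟨y, hy⟩ := (hf.nondegenerate u hu).2
  refine hv (f v y / f u y) ?_
  by_contra hne
  obtain ⟨z, hz⟩ := (hf.nondegenerate (v - (f v y / f u y) • u) (sub_ne_zero.2 hne)).2
  refine hz ?_
  have h1 := h0 (f u y • z - f u z • y) (by
    rw [sub_right hf, hf.bilinear.smul_right, hf.bilinear.smul_right]; ring)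
  rw [sub_right hf, hf.bilinear.smul_right, hf.bilinear.smul_right] at h1
  rw [sub_left hf, hf.bilinear.smul_left]
  field_simp
  linear_combination h1

theorem stv_all_of_pair (h2 : (2 : F) ≠ 0) {K : Subgroup (GL ι F)} (hle : K ≤ isoSub f)
    (hn : ∀ g ∈ isoSub f, ∀ k ∈ K, g * k * g⁻¹ ∈ K) {u v : ι → F} (hu : u ≠ 0) (hv : ∀ c : F, v ≠ c • u)
    (huv : f u v = 0) (hk : ∀ c : F, stv hf v c * stv hf u (-c) ∈ K) : K = isoSub f := by
  obtain ⟨z, hz0, hz1⟩ := exists_sep hf hu hv
  have hvu := swap_zero hf huv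
  -- the two shears
  have hshift : ∀ a c : F, stv hf (v + a • u) c * stv hf v (-c) ∈ K := by
    intro a c
    set S : GL ι F := stv hf (u + a • z) 1 * stv hf u (-1) * stv hf (a • z) (-1) with hS
    have hSiso : S ∈ isoSub f := mul_mem (mul_mem (stv_iso hf _ _) (stv_iso hf _ _)) (stv_iso hf _ _)
    have huz : f u (a • z) = 0 := by rw [hf.bilinear.smul_right, hz0, mul_zero]
    have hSv : (S : Matrix ι ι F) *ᵥ v = v + a • u := by
      rw [hS, siegel_mulVec hf huz, hvu, zero_smul, add_zero, hf.bilinear.smul_right, hz1, mul_one]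
    have hSu : (S : Matrix ι ι F) *ᵥ u = u := by
      rw [hS, siegel_mulVec hf huz, hf.alternating, huz, zero_smul, zero_smul, add_zero, add_zero]
    have h1 := mul_mem (hn S hSiso _ (hk c)) (inv_mem (hk c))
    rw [show S * (stv hf v c * stv hf u (-c)) * S⁻¹ = (S * stv hf v c * S⁻¹) * (S * stv hf u (-c) * S⁻¹) by group,
      stv_conj hf hSiso, stv_conj hf hSiso, hSv, hSu, _root_.mul_inv_rev] at h1
    rw [mul_assoc, mul_inv_cancel_left] at h1
    rwa [show (stv hf v c)⁻¹ = stv hf v (-c) from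
      inv_eq_of_mul_eq_one_right (by rw [stv_mul, add_neg_cancel, stv_zero])] at h1
  have hu2 : ∀ c, stv hf u c ∈ K := by
    intro c
    have h1 := mul_mem (hshift 1 (c / 2)) (hshift (-1) (c / 2))
    have e : stv hf (v + (1 : F) • u) (c / 2) * stv hf v (-(c / 2)) *
        (stv hf (v + (-1 : F) • u) (c / 2) * stv hf v (-(c / 2))) = stv hf u c := gl_ext_vec fun x => by
      rw [gl_mul_mulVec, gl_mul_mulVec, gl_mul_mulVec, stv_mulVec hf v, stv_mulVec hf (v + (-1 : F) • u), stv_mulVec hf v,
        stv_mulVec hf (v + (1 : F) • u), stv_mulVec hf u]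
      simp only [hf.bilinear.add_left, hf.bilinear.add_right, hf.bilinear.smul_left, hf.bilinear.smul_right,
        hf.alternating, huv, hvu]
      match_scalars <;> field_simp <;> ring
    rwa [e] at h1
  refine eq_isoSub hf hle fun x c => ?_
  by_cases hx : x = 0
  · rw [hx, stv_zero_left]; exact one_mem _
  obtain ⟨t, ht, htu⟩ := move_vec hf (M := isoSub f) (fun w _ c' => stv_iso hf w c') (isNondegenerateOn_top hf)
    (Submodule.mem_top (x := u)) (Submodule.mem_top (x := x)) hu hx
  have := hn t ht.1 _ (hu2 c)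
  rwa [stv_conj hf ht.1, htu] at this

theorem exists_perp_two (hdim : 3 ≤ Fintype.card ι) (u v : ι → F) : ∃ w, w ≠ 0 ∧ f u w = 0 ∧ f v w = 0 := by
  let L : (ι → F) →ₗ[F] F × F :=
    { toFun := fun w => (f u w, f v w)
      map_add' := fun a b => by simp [hf.bilinear.add_right]
      map_smul' := fun c a => by simp [hf.bilinear.smul_right] }
  have h1 := LinearMap.finrank_range_add_finrank_ker L
  have h2 := Submodule.finrank_le (LinearMap.range L)
  rw [Module.finrank_prod, Module.finrank_self] at h2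
  rw [Module.finrank_fintype_fun_eq_card] at h1
  obtain ⟨w, hw, hw0⟩ := Submodule.exists_mem_ne_zero_of_ne_bot (p := LinearMap.ker L) fun e => by
    rw [e, finrank_bot] at h1; omega
  have := LinearMap.mem_ker.1 hw
  simp [L] at this
  exact ⟨w, hw0, this.1, this.2⟩

/-- **A non-central normal subgroup is everything.** -/
theorem normal_eq_isoSub (h2 : (2 : F) ≠ 0) (hdim : 3 ≤ Fintype.card ι) {K : Subgroup (GL ι F)} (hle : K ≤ isoSub f)
    (hn : ∀ g ∈ isoSub f, ∀ k ∈ K, g * k * g⁻¹ ∈ K) {g : GL ι F} (hg : g ∈ K)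
    (hsc : ¬ ∃ c : F, (g : Matrix ι ι F) = c • 1) : K = isoSub f := by
  classical
  obtain ⟨u, hu⟩ : ∃ u : ι → F, ∀ c : F, (g : Matrix ι ι F) *ᵥ u ≠ c • u := by
    by_contra hcon
    push Not at hcon
    choose c hc using hcon
    refine hsc ⟨c 1, ?_⟩
    have key : ∀ (x y : ι → F), x ≠ 0 → (∀ s : F, y ≠ s • x) → c x = c y := by
      intro x y hx hy
      have h1 := hc (x + y)
      rw [Matrix.mulVec_add, hc x, hc y, smul_add] at h1
      by_contra hne
      have h3 : (c y - c (x + y)) • y = (c (x + y) - c x) • x := by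
        linear_combination (norm := module) h1
      by_cases h4 : c y - c (x + y) = 0
      · rw [h4, zero_smul] at h3
        rcases smul_eq_zero.1 h3.symm with h5 | h5
        · exact hne ((sub_eq_zero.1 h5).symm.trans (sub_eq_zero.1 h4).symm)
        · exact hx h5
      · exact hy ((c y - c (x + y))⁻¹ * (c (x + y) - c x)) (by
          rw [mul_smul, ← h3, smul_smul, inv_mul_cancel₀ h4, one_smul])
    haveI : Nonempty ι := Fintype.card_pos_iff.1 (by omega)
    have hone : (1 : ι → F) ≠ 0 := one_ne_zero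
    have hall : ∀ x, (g : Matrix ι ι F) *ᵥ x = c 1 • x := by
      intro x
      by_cases hx : ∃ s : F, x = s • (1 : ι → F)
      · obtain ⟨s, rfl⟩ := hx
        rw [Matrix.mulVec_smul, hc, smul_comm]
      · push Not at hx
        rw [hc x, key 1 x hone hx]
    exact Matrix.ext_of_mulVec_single fun i => by rw [hall, Matrix.smul_mulVec, Matrix.one_mulVec]
  have hu0 : u ≠ 0 := fun e => hu 0 (by rw [e, Matrix.mulVec_zero, smul_zero])
  set v := (g : Matrix ι ι F) *ᵥ u with hv
  have hk : ∀ c : F, stv hf v c * stv hf u (-c) ∈ K := fun c => by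
    have h1 := mul_mem hg (hn _ (stv_iso hf u c) _ (inv_mem hg))
    rwa [show g * (stv hf u c * g⁻¹ * (stv hf u c)⁻¹) = g * stv hf u c * g⁻¹ * (stv hf u c)⁻¹ by group,
      stv_conj hf (hle hg), show (stv hf u c)⁻¹ = stv hf u (-c) from
        inv_eq_of_mul_eq_one_right (by rw [stv_mul, add_neg_cancel, stv_zero])] at h1
  by_cases huv : f u v = 0
  · exact stv_all_of_pair hf h2 hle hn hu0 hu huv hk
  -- move to an orthogonal pair
  obtain ⟨w, hw, huw, hvw⟩ := exists_perp_two hf hdim u v
  have hvu : f v u ≠ 0 := swap_ne hf huv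
  obtain ⟨t, ht, htv, htu⟩ := move_second hf (M := isoSub f) (fun x _ c' => stv_iso hf x c')
    (e := v) (h := (f v u)⁻¹ • u) (h' := (f v u)⁻¹ • (u + w)) (W := ⊤) Submodule.mem_top Submodule.mem_top Submodule.mem_top
    (by rw [hf.bilinear.smul_right, inv_mul_cancel₀ hvu])
    (by rw [hf.bilinear.smul_right, hf.bilinear.add_right, hvw, add_zero, inv_mul_cancel₀ hvu])
  rw [Matrix.mulVec_smul] at htu
  have htu' := smul_right_injective _ (inv_ne_zero hvu) htu
  refine stv_all_of_pair hf h2 hle hn hu0 (v := u + w) (fun c e => ?_) (by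
    rw [hf.bilinear.add_right, hf.alternating, huw, add_zero]) fun c => ?_
  · have h1 := congrArg (f v) e
    rw [hf.bilinear.add_right, hvw, add_zero, hf.bilinear.smul_right] at h1
    have hc1 : c = 1 := mul_right_cancel₀ hvu (by rw [one_mul]; exact h1.symm)
    rw [hc1, one_smul] at e
    exact hw (add_eq_left.1 e)
  · have h1 := mul_mem (inv_mem (hn t ht.1 _ (hk c))) (hk c)
    rw [show t * (stv hf v c * stv hf u (-c)) * t⁻¹ = (t * stv hf v c * t⁻¹) * (t * stv hf u (-c) * t⁻¹) by group,
      stv_conj hf ht.1, stv_conj hf ht.1, htv, htu', _root_.mul_inv_rev, mul_assoc, inv_mul_cancel_left,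
      show (stv hf (u + w) (-c))⁻¹ = stv hf (u + w) c from
        inv_eq_of_mul_eq_one_right (by rw [stv_mul, neg_add_cancel, stv_zero])] at h1
    exact h1

end CfsgLib.Perm.Trans.PauliMax.Symp
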