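import Cfsg.Agent.Lib.Perm.Trans.PauliMax.Symp.Sub
import Cfsg.Agent.Lib.Perm.Trans.PauliMax.Symp.Normal

/-!
# Centralisers of involutions of the group in an overgroup

The induction step: a proper overgroup of the normaliser in the symplectic group meets the centraliser of a
non-central involution of the group in elements normalising it.
-/

set_option autoImplicit false
set_option linter.all false

namespace CfsgLib.Perm.Trans.PauliMax.Symp

open scoped Matrix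
open Matrix Cfsg.Geo CfsgLib.Perm.Asch CfsgLib.Perm.Trans
open scoped Classical
open CfsgLib.Perm.Trans.Symp (isoSub mem_isoSub)

variable {F : Type*} [Field F] [Finite F]

/-- the statement in dimension `2 ^ m` -/
def Good (F : Type*) [Field F] (m : ℕ) : Prop :=
  ∀ (ι : Type) [Fintype ι] [DecidableEq ι] (f : (ι → F) → (ι → F) → F) (R : Subgroup (GL ι F)), SpPauli f R m →
    ∀ M : Subgroup (GL ι F), NN f R ≤ M → M ≤ isoSub f → M ≤ subgroupNormalizer R ∨ M = isoSub f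

variable {ι : Type} [Fintype ι] [DecidableEq ι]
variable {f : (ι → F) → (ι → F) → F} {R : Subgroup (GL ι F)} {m : ℕ}

theorem R_le_NN (hP : SpPauli f R m) : R ≤ NN f R := le_inf Subgroup.le_normalizer hP.iso

theorem nn_conj {g r : GL ι F} (hg : g ∈ NN f R) (hr : r ∈ R) : g * r * g⁻¹ ∈ R :=
  (Subgroup.mem_normalizer_iff.1 hg.1 r).1 hr

theorem exists_not_pm (hP : SpPauli f R m) (hm : 1 ≤ m) : ∃ x ∈ R, ¬ IsPM x := by
  by_contra hcon
  push Not at hcon
  have hle : Nat.card (Bar hP) ≤ 1 := by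
    haveI : Subsingleton (Bar hP) := ⟨fun a b => by
      obtain ⟨r, rfl⟩ := mk_surjective hP a
      obtain ⟨s, rfl⟩ := mk_surjective hP b
      rw [(mk_eq_zero hP).2 (hcon r r.2), (mk_eq_zero hP).2 (hcon s s.2)]⟩
    exact (Finite.card_le_one_iff_subsingleton).2 inferInstance
  rw [card_bar] at hle
  have : 2 ≤ 2 ^ (2 * m) := le_self_pow₀ (M₀ := ℕ) (by norm_num) (by omega)
  omega

/-- conjugation on the binary space -/
noncomputable def bfun (hP : SpPauli f R m) (g : NN f R) (x : Bar hP) : Bar hP :=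
  mk hP ⟨g * (rep hP x : GL ι F) * (g : GL ι F)⁻¹, nn_conj g.2 (rep hP x).2⟩

theorem bfun_mk (hP : SpPauli f R m) (g : NN f R) (r : R) :
    bfun hP g (mk hP r) = mk hP ⟨g * (r : GL ι F) * (g : GL ι F)⁻¹, nn_conj g.2 r.2⟩ := by
  rw [bfun, mk_eq]
  rcases rep_mk hP r with e | e
  · left; simp only [e]
  · right; simp only [e, mul_neg, neg_mul, neg_neg]

theorem bfun_bfun (hP : SpPauli f R m) (g h : NN f R) (x : Bar hP) : bfun hP g (bfun hP h x) = bfun hP (g * h) x := by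
  obtain ⟨r, rfl⟩ := mk_surjective hP x
  rw [bfun_mk, bfun_mk, bfun_mk]
  exact congrArg (mk hP) (Subtype.ext (by simp [mul_assoc]))

theorem bfun_one (hP : SpPauli f R m) (x : Bar hP) : bfun hP 1 x = x := by
  obtain ⟨r, rfl⟩ := mk_surjective hP x
  rw [bfun_mk]
  exact congrArg (mk hP) (Subtype.ext (by simp))

/-- the permutation of the binary space given by an element of the normaliser -/
noncomputable def bperm (hP : SpPauli f R m) (g : NN f R) : Equiv.Perm (Bar hP) where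
  toFun := bfun hP g
  invFun := bfun hP g⁻¹
  left_inv x := by rw [bfun_bfun, inv_mul_cancel, bfun_one]
  right_inv x := by rw [bfun_bfun, mul_inv_cancel, bfun_one]

theorem bperm_mk (hP : SpPauli f R m) (g : NN f R) (r : R) :
    bperm hP g (mk hP r) = mk hP ⟨g * (r : GL ι F) * (g : GL ι F)⁻¹, nn_conj g.2 r.2⟩ := bfun_mk hP g r

/-- the action on the binary space -/
noncomputable def bhom (hP : SpPauli f R m) : NN f R →* Equiv.Perm (Bar hP) where
  toFun := bperm hP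
  map_one' := Equiv.ext fun x => by
    obtain ⟨r, rfl⟩ := mk_surjective hP x
    rw [bperm_mk]
    exact congrArg (mk hP) (Subtype.ext (by simp))
  map_mul' g h := Equiv.ext fun x => by
    obtain ⟨r, rfl⟩ := mk_surjective hP x
    rw [Equiv.Perm.mul_apply, bperm_mk, bperm_mk, bperm_mk]
    exact congrArg (mk hP) (Subtype.ext (by simp [mul_assoc]))

theorem bhom_mk (hP : SpPauli f R m) (g : NN f R) (r : R) :
    bhom hP g (mk hP r) = mk hP ⟨g * (r : GL ι F) * (g : GL ι F)⁻¹, nn_conj g.2 r.2⟩ := bperm_mk hP g r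

theorem bhom_iso (hP : SpPauli f R m) (g : NN f R) : Orth.Iso (barQ hP) (bhom hP g) := by
  refine ⟨fun x y => ?_, fun x => ?_⟩
  · obtain ⟨r, rfl⟩ := mk_surjective hP x
    obtain ⟨s, rfl⟩ := mk_surjective hP y
    rw [← mk_mul, bhom_mk, bhom_mk, bhom_mk, ← mk_mul]
    exact congrArg (mk hP) (Subtype.ext (by simp [mul_assoc]))
  · obtain ⟨r, rfl⟩ := mk_surjective hP x
    rw [bhom_mk, barQ_mk, barQ_mk]
    refine if_congr ?_ rfl rfl
    show (g : GL ι F) * r * (g : GL ι F)⁻¹ * (g * r * (g : GL ι F)⁻¹) = 1 ↔ _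
    rw [show (g : GL ι F) * r * (g : GL ι F)⁻¹ * (g * r * (g : GL ι F)⁻¹) = g * ((r : GL ι F) * r) * (g : GL ι F)⁻¹ by group]
    exact conj_eq_one_iff

theorem bhom_inner (hP : SpPauli f R m) {s : GL ι F} (hs : s ∈ R) : bhom hP ⟨s, R_le_NN hP hs⟩ = 1 := by
  refine Equiv.ext fun x => ?_
  obtain ⟨r, rfl⟩ := mk_surjective hP x
  rw [bhom_mk, Equiv.Perm.one_apply, mk_eq]
  rcases hP.mul_mul_inv hs r.2 with e | e
  · exact Or.inl e.symm
  · exact Or.inr (show (r : GL ι F) = -(s * r * s⁻¹) by rw [e, neg_neg])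

namespace Frame

variable (φ : Frame f R m)

omit [Finite F] in
theorem trace_ext (a b : Matrix (Fin (2 ^ m)) (Fin (2 ^ m)) F) : (φ.ext a b).trace = a.trace + b.trace := by
  rw [ext, Matrix.trace_add, Matrix.trace_mul_cycle φ.W _ φ.W, φ.WW, one_mul, Matrix.trace_mul_cycle φ.J a φ.E,
    φ.EJ, Matrix.one_mul, Matrix.trace_mul_cycle φ.J b φ.E, φ.EJ, Matrix.one_mul]

omit [Finite F] in
theorem tr_extG (a b : GL (Fin (2 ^ m)) F) : tr (φ.extG (a, b)) = tr a + tr b := φ.trace_ext _ _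

omit [Finite F] in
theorem stv_extG (v : Fin (2 ^ m) → F) (c : F) :
    φ.extG (CfsgLib.Perm.Trans.Symp.stv φ.isSymplectic v c, 1) =
      CfsgLib.Perm.Trans.Symp.stv φ.pauli.form (φ.J *ᵥ v) c := CfsgLib.Perm.Trans.gl_ext_vec fun x => by
  have hf := φ.pauli.form
  have e : (φ.extG (CfsgLib.Perm.Trans.Symp.stv φ.isSymplectic v c, 1) : Matrix ι ι F) *ᵥ x =
      φ.J *ᵥ ((CfsgLib.Perm.Trans.Symp.stv φ.isSymplectic v c : Matrix _ _ F) *ᵥ (φ.E *ᵥ x)) +
        φ.W *ᵥ (φ.J *ᵥ (φ.E *ᵥ (φ.W *ᵥ x))) := by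
    rw [extG_val, Units.val_one, ext, Matrix.mul_one, Matrix.add_mulVec]
    simp only [← Matrix.mulVec_mulVec]
  rw [e, CfsgLib.Perm.Trans.Symp.stv_mulVec, CfsgLib.Perm.Trans.Symp.stv_mulVec, Matrix.mulVec_add, Matrix.mulVec_smul]
  have h1 : f x (φ.J *ᵥ v) = φ.form (φ.E *ᵥ x) v := by
    conv_lhs => rw [φ.decomp x]
    rw [hf.bilinear.add_left, CfsgLib.Perm.Trans.Symp.swap_zero hf (φ.cross _ _), add_zero]
    rfl
  rw [h1]
  conv_rhs => rw [φ.decomp x]
  rw [← φ.decomp x]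
  rw [add_right_comm, ← φ.decomp x]

variable {M : Subgroup (GL ι F)}

/-- the image of the centraliser of `u` in the overgroup -/
def res (M : Subgroup (GL ι F)) : Subgroup (GL (Fin (2 ^ m)) F) where
  carrier := {a | ∃ t, ∃ hc : t * φ.u = φ.u * t, t ∈ M ∧ φ.rpG t hc = a}
  one_mem' := ⟨1, by simp, M.one_mem, Units.ext (by rw [rpG_val, Units.val_one, φ.rp_one, Units.val_one])⟩
  mul_mem' := by
    rintro _ _ ⟨s, hs, hsR, rfl⟩ ⟨t, ht, htR, rfl⟩
    exact ⟨s * t, ((show Commute s φ.u from hs).mul_left ht).eq, mul_mem hsR htR, φ.rpG_mul hs ht _⟩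
  inv_mem' := by
    rintro _ ⟨s, hs, hsR, rfl⟩
    exact ⟨s⁻¹, φ.comm_inv hs, inv_mem hsR, Units.ext rfl⟩

/-- the restriction lies in the normaliser, unless the overgroup is everything -/
theorem res_le (hG : Good F m) (hm : 2 ≤ m) (hN : NN f R ≤ M) (hM : M ≤ isoSub f) (hne : M ≠ isoSub f) :
    φ.res M ≤ NN φ.form φ.sub := by
  have hS := φ.sub_pauli
  have hle : φ.res M ≤ isoSub φ.form := by
    rintro _ ⟨t, hc, ht, rfl⟩
    exact φ.rpG_iso (hM ht) hc
  have hge : NN φ.form φ.sub ≤ φ.res M := fun a ha =>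
    ⟨φ.extG (a, a), φ.extG_comm a a, hN (φ.diag_mem ha), φ.rpG_extG a a⟩
  refine le_inf ((hG _ φ.form φ.sub hS (φ.res M) hge hle).resolve_right fun hfull => hne ?_) hle
  -- the kernels of the restriction
  let K : Subgroup (GL (Fin (2 ^ m)) F) := (M.comap (φ.extG.comp (MonoidHom.inr _ _))) ⊓ isoSub φ.form
  have hKn : ∀ g ∈ isoSub φ.form, ∀ k ∈ K, g * k * g⁻¹ ∈ K := by
    intro g hg k hk
    obtain ⟨t, hc, ht, e⟩ : g ∈ φ.res M := hfull.symm ▸ hg
    refine ⟨?_, (show g * k * g⁻¹ ∈ isoSub φ.form from mul_mem (mul_mem hg hk.2) (inv_mem hg))⟩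
    show φ.extG (1, g * k * g⁻¹) ∈ M
    have hmem : φ.w * t * φ.w ∈ M :=
      mul_mem (mul_mem (hN (R_le_NN φ.pauli φ.w_mem)) ht) (hN (R_le_NN φ.pauli φ.w_mem))
    have h1 := mul_mem (mul_mem hmem (show φ.extG (1, k) ∈ M from hk.1)) (inv_mem hmem)
    have h2 := φ.extG_rpG (φ.comm_w hc)
    rw [φ.rpG_congr (show φ.w * (φ.w * t * φ.w) * φ.w = t by
      rw [show φ.w * (φ.w * t * φ.w) * φ.w = (φ.w * φ.w) * t * (φ.w * φ.w) by group, φ.ww, one_mul, mul_one])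
        (φ.comm_w (φ.comm_w hc)) hc, e] at h2
    rw [← h2, ← map_inv, ← map_mul, ← map_mul, Prod.inv_mk, Prod.mk_mul_mk, Prod.mk_mul_mk, mul_one,
      mul_inv_cancel] at h1
    exact h1
  obtain ⟨x, hx, hxpm⟩ := exists_not_pm hS (by omega)
  have hdim : 3 ≤ Fintype.card (Fin (2 ^ m)) := by
    rw [Fintype.card_fin]
    calc 3 ≤ 2 ^ 2 := by norm_num
      _ ≤ 2 ^ m := Nat.pow_le_pow_right (by norm_num) hm
  have hKtop : K = isoSub φ.form := normal_eq_isoSub φ.isSymplectic φ.two hdim inf_le_right hKn (g := x)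
    ⟨hN (φ.one_sub_mem hx), hS.iso hx⟩ fun ⟨c, hc⟩ => hxpm (hS.scalar_pm (hS.iso hx) hc)
  have hright : ∀ a ∈ isoSub φ.form, φ.extG (1, a) ∈ M := fun a ha => (hKtop.symm ▸ ha : a ∈ K).1
  have hleft : ∀ a ∈ isoSub φ.form, φ.extG (a, 1) ∈ M := fun a ha => by
    rw [← φ.w_extG 1 a]
    exact mul_mem (mul_mem (hN (R_le_NN φ.pauli φ.w_mem)) (hright a ha)) (hN (R_le_NN φ.pauli φ.w_mem))
  have hf := φ.pauli.form
  have hcJ : ∀ v, φ.J *ᵥ v ∈ CfsgLib.Perm.Trans.Symp.centres hf M := fun v c => by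
    rw [← φ.stv_extG v c]
    exact hleft _ (CfsgLib.Perm.Trans.Symp.stv_iso φ.isSymplectic v c)
  have hcW : ∀ v, φ.W *ᵥ (φ.J *ᵥ v) ∈ CfsgLib.Perm.Trans.Symp.centres hf M := fun v =>
    CfsgLib.Perm.Trans.Symp.centres_conj hf hM (hN (R_le_NN φ.pauli φ.w_mem)) (hcJ v)
  -- a centre with two components
  obtain ⟨g, hg, hgu⟩ := exists_conj φ.pauli (by omega) φ.u_mem φ.w_mem φ.u_not_pm (fun h => φ.pauli.neg_ne_self
    (φ.u * φ.w) (by
      have h' := φ.anti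
      rw [← h.comm φ.u] at h'
      exact h'.symm)) (φ.uu.trans φ.ww.symm)
  haveI : Nonempty (Fin (2 ^ m)) := ⟨⟨0, by positivity⟩⟩
  set x0 := (g : Matrix ι ι F) *ᵥ (φ.J *ᵥ (1 : Fin (2 ^ m) → F)) with hx0
  have hx0w : φ.W *ᵥ x0 = x0 ∨ φ.W *ᵥ x0 = -x0 := by
    have hw : φ.w * g = g * φ.u ∨ φ.w * g = -(g * φ.u) := by
      rcases hgu with e | e
      · left; rw [← e, inv_mul_cancel_right]
      · right; rw [show φ.w = -(g * φ.u * g⁻¹) by rw [e, neg_neg], neg_mul, inv_mul_cancel_right]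
    rcases hw with e | e
    · left
      have e' := congrArg Units.val e
      rw [Units.val_mul, Units.val_mul] at e'
      rw [hx0, Matrix.mulVec_mulVec, e', ← Matrix.mulVec_mulVec, Matrix.mulVec_mulVec _ φ.U φ.J, φ.UJ]
    · right
      have e' := congrArg Units.val e
      rw [Units.val_mul, Units.val_neg, Units.val_mul] at e'
      rw [hx0, Matrix.mulVec_mulVec, e', Matrix.neg_mulVec, ← Matrix.mulVec_mulVec, Matrix.mulVec_mulVec _ φ.U φ.J,
        φ.UJ]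
  have hx0ne : x0 ≠ 0 := fun e => by
    have h1 := congrArg (fun y => φ.E *ᵥ (((g⁻¹ : GL ι F) : Matrix ι ι F) *ᵥ y)) e
    rw [hx0, gl_inv_mulVec, Matrix.mulVec_mulVec, φ.EJ, Matrix.one_mulVec, Matrix.mulVec_zero, Matrix.mulVec_zero] at h1
    exact one_ne_zero h1
  have hx0c : x0 ∈ CfsgLib.Perm.Trans.Symp.centres hf M := CfsgLib.Perm.Trans.Symp.centres_conj hf hM (hN hg) (hcJ _)
  have hcomp : ∀ y, φ.W *ᵥ (φ.W *ᵥ y) = y := fun y => by rw [Matrix.mulVec_mulVec, φ.WW, Matrix.one_mulVec]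
  have hE0 : φ.E *ᵥ x0 ≠ 0 ∧ φ.E *ᵥ (φ.W *ᵥ x0) ≠ 0 := by
    have hd := φ.decomp x0
    have h2 : φ.E *ᵥ (φ.W *ᵥ x0) = 0 ↔ φ.E *ᵥ x0 = 0 := by
      rcases hx0w with e | e <;> rw [e]
      rw [Matrix.mulVec_neg, neg_eq_zero]
    refine ⟨fun h => hx0ne ?_, fun h => hx0ne ?_⟩
    · rw [hd, h, h2.2 h]
      simp only [Matrix.mulVec_zero, add_zero]
    · rw [hd, h, h2.1 h]
      simp only [Matrix.mulVec_zero, add_zero]
  refine CfsgLib.Perm.Trans.Symp.eq_isoSub_of_centres hf hM fun y => ?_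
  by_cases hy1 : φ.E *ᵥ y = 0
  · rw [φ.decomp y, hy1, Matrix.mulVec_zero, zero_add]
    exact hcW _
  by_cases hy2 : φ.E *ᵥ (φ.W *ᵥ y) = 0
  · rw [φ.decomp y, hy2, Matrix.mulVec_zero, Matrix.mulVec_zero, add_zero]
    exact hcJ _
  have hmove : ∀ a b : Fin (2 ^ m) → F, a ≠ 0 → b ≠ 0 →
      ∃ A ∈ isoSub φ.form, (A : Matrix _ _ F) *ᵥ a = b := fun a b ha hb => by
    obtain ⟨A, hA, e⟩ := CfsgLib.Perm.Trans.Symp.move_vec φ.isSymplectic (M := isoSub φ.form)
      (fun w _ c' => CfsgLib.Perm.Trans.Symp.stv_iso φ.isSymplectic w c')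
      (CfsgLib.Perm.Trans.Symp.isNondegenerateOn_top φ.isSymplectic)
      (Submodule.mem_top (x := a)) (Submodule.mem_top (x := b)) ha hb
    exact ⟨A, hA.1, e⟩
  obtain ⟨A, hA, eA⟩ := hmove _ _ hE0.1 hy1
  obtain ⟨B, hB, eB⟩ := hmove _ _ hE0.2 hy2
  have hAB : φ.extG (A, B) ∈ M := by
    rw [show ((A, B) : GL (Fin (2 ^ m)) F × GL (Fin (2 ^ m)) F) = (A, 1) * (1, B) by simp, map_mul]
    exact mul_mem (hleft A hA) (hright B hB)
  have e : (φ.extG (A, B) : Matrix ι ι F) *ᵥ x0 = y := by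
    rw [extG_val, ext, Matrix.add_mulVec]
    simp only [← Matrix.mulVec_mulVec, eA, eB]
    exact (φ.decomp y).symm
  rw [← e]
  exact CfsgLib.Perm.Trans.Symp.centres_conj hf hM hAB hx0c

/-- conjugates of centralised elements agree with centralised elements on the fixed space -/
theorem eigen_mem (hG : Good F m) (hm : 2 ≤ m) (hN : NN f R ≤ M) (hM : M ≤ isoSub f) (hne : M ≠ isoSub f)
    {h t : GL ι F} (hh : h ∈ M) (hc : h * φ.u = φ.u * h) (ht : t ∈ R) (htc : t * φ.u = φ.u * t) :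
    ∃ t' ∈ R, ((h * t * h⁻¹ : GL ι F) : Matrix ι ι F) * pp φ.u = (t' : Matrix ι ι F) * pp φ.u := by
  have ha := φ.res_le hG hm hN hM hne ⟨h, hc, hh, rfl⟩
  obtain ⟨t', ht'c, ht', e⟩ := φ.sub_conj ha (φ.mem_sub ht htc)
  have hX : h * t * h⁻¹ * φ.u = φ.u * (h * t * h⁻¹) :=
    (((show Commute h φ.u from hc).mul_left htc).mul_left (φ.comm_inv hc)).eq
  have hrp : φ.rpG _ hX = φ.rpG t' ht'c := by
    rw [e, φ.rpG_mul (((show Commute h φ.u from hc).mul_left htc).eq) (φ.comm_inv hc), φ.rpG_mul hc htc]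
    congr 1
  refine ⟨t', ht', ?_⟩
  have key : ∀ s : GL ι F, ∀ hs : s * φ.u = φ.u * s,
      (s : Matrix ι ι F) * pp φ.u = φ.J * (φ.rpG s hs : Matrix (Fin (2 ^ m)) (Fin (2 ^ m)) F) * φ.E := fun s hs => by
    rw [rpG_val, φ.JrpE, ← φ.comm_pp (φ.comm_mat hs), mul_assoc, φ.P_mul_P]
  rw [key _ hX, key _ ht'c, hrp]

/-- elements of the overgroup centralising `u` normalise the group -/
theorem cen_mem (hG : Good F m) (hm : 2 ≤ m) (hN : NN f R ≤ M) (hM : M ≤ isoSub f) (hne : M ≠ isoSub f)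
    {h : GL ι F} (hh : h ∈ M) (hc : h * φ.u = φ.u * h) : h ∈ NN f R := by
  have hS := φ.sub_pauli
  have hwM := hN (R_le_NN φ.pauli φ.w_mem)
  set a := φ.rpG h hc with ha
  set b := φ.rpG (φ.w * h * φ.w) (φ.comm_w hc) with hb
  have haN : a ∈ NN φ.form φ.sub := φ.res_le hG hm hN hM hne ⟨h, hc, hh, rfl⟩
  have hbN : b ∈ NN φ.form φ.sub :=
    φ.res_le hG hm hN hM hne ⟨_, φ.comm_w hc, mul_mem (mul_mem hwM hh) hwM, rfl⟩
  have hh' : φ.extG (1, a⁻¹ * b) = (φ.extG (a, a))⁻¹ * h := by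
    conv_rhs => rw [← φ.extG_rpG hc]
    rw [← map_inv, ← map_mul, Prod.inv_mk, Prod.mk_mul_mk, inv_mul_cancel]
  suffices key : a⁻¹ * b ∈ φ.sub by
    have h1 := mul_mem (φ.diag_mem haN) (φ.one_sub_mem key)
    rwa [hh', mul_inv_cancel_left] at h1
  let C0 : Subgroup (NN φ.form φ.sub) :=
    (M.comap (φ.extG.comp (MonoidHom.inr _ _))).comap (NN φ.form φ.sub).subtype
  let C : Subgroup (Equiv.Perm (Bar hS)) := C0.map (bhom hS)
  have hc0 : (⟨a⁻¹ * b, mul_mem (inv_mem haN) hbN⟩ : NN φ.form φ.sub) ∈ C0 := by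
    show φ.extG (1, a⁻¹ * b) ∈ M
    rw [hh']
    exact mul_mem (inv_mem (hN (φ.diag_mem haN))) hh
  by_cases htriv : bhom hS ⟨a⁻¹ * b, mul_mem (inv_mem haN) hbN⟩ = 1
  · refine hS.mem_of_fix (mul_mem (inv_mem haN.2) hbN.2) fun x hx => ?_
    have h1 := Equiv.ext_iff.1 htriv (Symp.mk hS ⟨x, hx⟩)
    rw [bhom_mk, Equiv.Perm.one_apply, mk_eq] at h1
    rcases h1 with e | e
    · exact Or.inl e.symm
    · exact Or.inr (neg_eq_iff_eq_neg.1 e.symm)
  exfalso
  have hnorm : Orth.Normalised (space hS) C := by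
    refine ⟨?_, ?_⟩
    · rintro _ ⟨g, -, rfl⟩
      exact bhom_iso hS g
    · rintro _ ⟨g, hg, rfl⟩ p q hp hq
      obtain ⟨p, rfl⟩ := mk_surjective hS p
      obtain ⟨q, rfl⟩ := mk_surjective hS q
      have hp' := (barQ_one_iff hS p).1 hp
      have hq' := (barQ_one_iff hS q).1 hq
      let G : NN φ.form φ.sub := ⟨_, pairGate_mem hS p.2 hp' q.2 hq'⟩
      have hG' : bhom hS G = Orth.tau (space hS) (Symp.mk hS p) * Orth.tau (space hS) (Symp.mk hS q) := by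
        refine Equiv.ext fun x => ?_
        obtain ⟨r, rfl⟩ := mk_surjective hS x
        rw [bhom_mk, Equiv.Perm.mul_apply]
        exact mk_pairGate hS hp' hq' r
      refine ⟨G * g * G⁻¹, ?_, by rw [map_mul, map_mul, map_inv, hG']⟩
      show φ.extG (1, (G : GL (Fin (2 ^ m)) F) * g * (G : GL (Fin (2 ^ m)) F)⁻¹) ∈ M
      have hGM := hN (φ.diag_mem G.2)
      have h1 := mul_mem (mul_mem hGM (show φ.extG (1, (g : GL (Fin (2 ^ m)) F)) ∈ M from hg)) (inv_mem hGM)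
      rwa [← map_inv, ← map_mul, ← map_mul, Prod.inv_mk, Prod.mk_mul_mk, Prod.mk_mul_mk, mul_one, mul_inv_cancel] at h1
  obtain ⟨pa, pd, hqa, hqd, had, ⟨c, hcC, hcact⟩⟩ :=
    Orth.found hnorm (card_bar_ge hS hm) (Subgroup.mem_map_of_mem _ hc0) htriv
  obtain ⟨r, hr0, hrq, hra, hrd⟩ := Orth.exists_sing (space hS) (card_bar_ge hS hm) hqa hqd had
  obtain ⟨av, rfl⟩ := mk_surjective hS pa
  obtain ⟨dv, rfl⟩ := mk_surjective hS pd
  obtain ⟨y, rfl⟩ := mk_surjective hS r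
  have hypm : ¬ IsPM (y : GL (Fin (2 ^ m)) F) := fun e => hr0 ((mk_eq_zero hS).2 e)
  have hyy := (barQ_zero_iff hS y).1 hrq
  have hay := (barB_zero_iff hS av y).1 hra
  have hfix := Equiv.ext_iff.1 hcact (Symp.mk hS y)
  rw [bhom_mk, Equiv.Perm.mul_apply, Orth.tau_apply, Orth.tau_apply, Orth.tfun_fix _ hra, Orth.tfun_fix _ hrd, mk_eq] at hfix
  -- commute exactly
  obtain ⟨c, hcC, hcy, hca⟩ : ∃ c : NN φ.form φ.sub, c ∈ C0 ∧
      (c : GL (Fin (2 ^ m)) F) * y = (y : GL (Fin (2 ^ m)) F) * c ∧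
      Symp.mk hS ⟨(c : GL (Fin (2 ^ m)) F) * av * (c : GL (Fin (2 ^ m)) F)⁻¹, nn_conj c.2 av.2⟩ =
        Symp.mk hS av + Symp.mk hS dv := by
    have hca : bhom hS c (Symp.mk hS av) = Symp.mk hS av + Symp.mk hS dv := by
      rw [hcact, Equiv.Perm.mul_apply, Orth.tau_apply, Orth.tau_apply, Orth.tfun_fix _ ((space hS).self _),
        Orth.tfun_move _ (by rw [(space hS).symm, had])]
    rcases hfix with e | e
    · refine ⟨c, hcC, mul_inv_eq_iff_eq_mul.1 e.symm, ?_⟩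
      rw [← bhom_mk]; exact hca
    · obtain ⟨s, hs, hsy⟩ := hS.exists_anti y.2 hypm
      refine ⟨⟨s, R_le_NN hS hs⟩ * c, C0.mul_mem (hN (φ.one_sub_mem hs)) hcC, ?_, ?_⟩
      · have e' : (c : GL (Fin (2 ^ m)) F) * y = -((y : GL (Fin (2 ^ m)) F) * c) := by
          conv_rhs => rw [show (y : GL (Fin (2 ^ m)) F) = -((c : GL (Fin (2 ^ m)) F) * y * (c : GL (Fin (2 ^ m)) F)⁻¹) from e]
          rw [neg_mul, neg_neg, inv_mul_cancel_right]
        rw [Subgroup.coe_mul]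
        show s * (c : GL (Fin (2 ^ m)) F) * y = y * (s * (c : GL (Fin (2 ^ m)) F))
        rw [mul_assoc, e', mul_neg, ← mul_assoc, ← mul_assoc, hsy, neg_mul]
      · rw [← bhom_mk, map_mul, bhom_inner hS hs, one_mul]; exact hca
  set av' : φ.sub := ⟨(c : GL (Fin (2 ^ m)) F) * av * (c : GL (Fin (2 ^ m)) F)⁻¹, nn_conj c.2 av.2⟩ with hav'
  -- the second involution
  set u' := φ.extG ((y : GL (Fin (2 ^ m)) F), (y : GL (Fin (2 ^ m)) F)) with hu'
  have hu'R : u' ∈ R := φ.extG_diag_mem y.2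
  have hu'u : u' * u' = 1 := by rw [hu', ← map_mul, Prod.mk_mul_mk, hyy]; exact map_one φ.extG
  have hu'pm : ¬ IsPM u' := by
    intro e
    apply hypm
    rcases e with e | e
    · left
      have h1 := φ.rpG_congr e (φ.extG_comm _ _) (by simp)
      rw [φ.rpG_extG] at h1
      rw [h1]; exact Units.ext (by rw [rpG_val, Units.val_one, φ.rp_one, Units.val_one])
    · right
      have h1 := φ.rpG_congr e (φ.extG_comm _ _) (by simp)
      rw [φ.rpG_extG] at h1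
      rw [h1]; exact Units.ext (by simp [rpG_val, rp, φ.EJ])
  obtain ⟨ψ, hψ⟩ := exists_frame φ.pauli hu'R hu'pm hu'u
  set x := φ.extG (1, (c : GL (Fin (2 ^ m)) F)) with hx
  set t := φ.extG ((av : GL (Fin (2 ^ m)) F), (av : GL (Fin (2 ^ m)) F)) with ht
  have hxc : x * ψ.u = ψ.u * x := by
    rw [hψ, hx, hu', ← map_mul, ← map_mul, Prod.mk_mul_mk, Prod.mk_mul_mk, one_mul, mul_one, hcy]
  have htc : t * ψ.u = ψ.u * t := by
    rw [hψ, ht, hu', ← map_mul, ← map_mul, Prod.mk_mul_mk, Prod.mk_mul_mk, hay]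
  obtain ⟨t', ht', heq⟩ := ψ.eigen_mem hG hm hN hM hne (h := x) hcC hxc (φ.extG_diag_mem av.2) htc
  rw [hψ, pp, mul_smul_comm, mul_smul_comm] at heq
  have heq' := (isUnit_iff_ne_zero.2 (one_div_ne_zero φ.two)).smul_left_cancel.1 heq
  rw [mul_add, mul_add, mul_one, mul_one, ← Units.val_mul, ← Units.val_mul] at heq'
  have hX : x * t * x⁻¹ = φ.extG ((av : GL (Fin (2 ^ m)) F), (av' : GL (Fin (2 ^ m)) F)) := by
    rw [hx, ht, ← map_inv, ← map_mul, ← map_mul, Prod.inv_mk, Prod.mk_mul_mk, Prod.mk_mul_mk, one_mul, inv_one,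
      mul_one]
  rw [hX] at heq'
  have hn' : (Fintype.card (Fin (2 ^ m)) : F) ≠ 0 := hS.natCast_ne
  have hz : ∀ p : φ.sub, Symp.mk hS p ≠ 0 → tr (p : GL (Fin (2 ^ m)) F) = 0 := fun p hp =>
    hS.trace_zero p.2 fun e => hp ((mk_eq_zero hS).2 e)
  have hdv0 : Symp.mk hS dv ≠ 0 := (space hS).ne_zero hqd
  have hdy : Symp.mk hS dv + Symp.mk hS y ≠ 0 := fun e => zero_ne_one (hrq.symm.trans (((space hS).eq_of_add e) ▸ hqd))
  have hinv : ∀ p : φ.sub, Symp.mk hS p⁻¹ = Symp.mk hS p := fun p => (mk_eq hS).2 (by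
    rcases hS.inv_eq p.2 with e | e
    · exact Or.inl (by rw [Subgroup.coe_inv, e])
    · exact Or.inr (by rw [Subgroup.coe_inv, e, neg_neg]))
  have htr1 : tr ((av' : GL (Fin (2 ^ m)) F) * (av : GL (Fin (2 ^ m)) F)⁻¹) = 0 := hz (av' * av⁻¹) (by
    rw [mk_mul, hinv, hav', hca, add_right_comm, (space hS).two, zero_add]; exact hdv0)
  have htr2 : tr ((av : GL (Fin (2 ^ m)) F) * (y : GL (Fin (2 ^ m)) F) * (av : GL (Fin (2 ^ m)) F)⁻¹) = 0 := by
    rw [hay, mul_inv_cancel_right]; exact hz y hr0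
  have htr3 : tr ((av' : GL (Fin (2 ^ m)) F) * (y : GL (Fin (2 ^ m)) F) * (av : GL (Fin (2 ^ m)) F)⁻¹) = 0 := hz (av' * y * av⁻¹) (by
    rw [mk_mul, mk_mul, hinv, hav', hca,
      show Symp.mk hS av + Symp.mk hS dv + Symp.mk hS y + Symp.mk hS av = Symp.mk hS dv + Symp.mk hS y + (Symp.mk hS av + Symp.mk hS av) by abel,
      (space hS).two, add_zero]
    exact hdy)
  -- the two test elements
  have hD : ∀ e : GL (Fin (2 ^ m)) F, IsPM e →
      IsPM (t' * φ.extG ((av : GL (Fin (2 ^ m)) F)⁻¹, e * (av : GL (Fin (2 ^ m)) F)⁻¹)) ∨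
        IsPM (t' * u' * φ.extG ((av : GL (Fin (2 ^ m)) F)⁻¹, e * (av : GL (Fin (2 ^ m)) F)⁻¹)) := by
    intro e he
    set D := φ.extG ((av : GL (Fin (2 ^ m)) F)⁻¹, e * (av : GL (Fin (2 ^ m)) F)⁻¹) with hD
    have hDR : D ∈ R := by
      rcases he with rfl | rfl
      · rw [hD, one_mul]; exact φ.extG_diag_mem (inv_mem av.2)
      · rw [hD, neg_one_mul]; exact (φ.extG_signs (inv_mem av.2)).1
    have h1 := congrArg (fun X => (X * (D : Matrix ι ι F)).trace) heq'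
    simp only [add_mul, Matrix.trace_add, ← Units.val_mul] at h1
    have hl : tr (φ.extG ((av : GL (Fin (2 ^ m)) F), (av' : GL (Fin (2 ^ m)) F)) * D) +
        tr (φ.extG ((av : GL (Fin (2 ^ m)) F), (av' : GL (Fin (2 ^ m)) F)) * u' * D) =
          (Fintype.card (Fin (2 ^ m)) : F) := by
      rw [hu', hD, ← map_mul, ← map_mul, ← map_mul, Prod.mk_mul_mk, Prod.mk_mul_mk, Prod.mk_mul_mk, φ.tr_extG,
        φ.tr_extG, mul_inv_cancel, trace_one, htr2]
      rcases he with rfl | rfl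
      · rw [one_mul, htr1, htr3, add_zero, add_zero, add_zero]
      · simp only [neg_one_mul, mul_neg, tr, Units.val_neg, Matrix.trace_neg]
        simp only [tr] at htr1 htr3
        rw [htr1, htr3, neg_zero, add_zero, add_zero, add_zero]
    simp only [tr] at hl
    rw [hl] at h1
    by_cases h2 : tr (t' * D) = 0
    · refine Or.inr (φ.pauli.trace_pm (mul_mem (mul_mem ht' hu'R) hDR) fun h3 => hn' ?_)
      simp only [tr] at h2 h3
      rw [h1, h2, h3, add_zero]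
    · exact Or.inl (φ.pauli.trace_pm (mul_mem ht' hDR) h2)
  -- hence `u` is central or equal to the second involution
  set D0 := φ.extG ((av : GL (Fin (2 ^ m)) F)⁻¹, (1 : GL (Fin (2 ^ m)) F) * (av : GL (Fin (2 ^ m)) F)⁻¹) with hD0
  set D1 := φ.extG ((av : GL (Fin (2 ^ m)) F)⁻¹, (-1 : GL (Fin (2 ^ m)) F) * (av : GL (Fin (2 ^ m)) F)⁻¹) with hD1
  have h01 : D0⁻¹ * D1 = φ.u := by
    rw [hD0, hD1, ← map_inv, ← map_mul, Prod.inv_mk, Prod.mk_mul_mk, inv_inv, mul_inv_cancel, one_mul, inv_inv,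
      neg_one_mul, mul_neg, mul_inv_cancel, φ.extG_one_neg]
  have hu'D0 : u' * D0 = D0 * u' := by
    rw [hD0, hu', ← map_mul, ← map_mul, Prod.mk_mul_mk, Prod.mk_mul_mk, one_mul]
    have e : (y : GL (Fin (2 ^ m)) F) * (av : GL (Fin (2 ^ m)) F)⁻¹ = (av : GL (Fin (2 ^ m)) F)⁻¹ * y :=
      ((show Commute (y : GL (Fin (2 ^ m)) F) av from hay.symm).inv_right).eq
    rw [e]
  have hu1 : u'⁻¹ = u' := inv_eq_of_mul_eq_one_right hu'u
  have hfin : IsPM φ.u ∨ IsPM (u' * φ.u) := by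
    rcases hD 1 (Or.inl rfl) with e0 | e0 <;> rcases hD (-1) (Or.inr rfl) with e1 | e1
    · refine Or.inl ?_
      have := e0.inv.mul e1
      rwa [_root_.mul_inv_rev, mul_assoc, inv_mul_cancel_left, h01] at this
    · refine Or.inr ?_
      have := e0.inv.mul e1
      have hcomm : D0⁻¹ * u' = u' * D0⁻¹ := ((show Commute u' D0 from hu'D0).inv_right).symm.eq
      rwa [_root_.mul_inv_rev, mul_assoc t' u', mul_assoc D0⁻¹, inv_mul_cancel_left, ← mul_assoc, hcomm, mul_assoc,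
        h01] at this
    · refine Or.inr ?_
      have := e0.inv.mul e1
      have hcomm : D0⁻¹ * u' = u' * D0⁻¹ := ((show Commute u' D0 from hu'D0).inv_right).symm.eq
      rwa [_root_.mul_inv_rev, _root_.mul_inv_rev, hu1, mul_assoc D0⁻¹, mul_assoc u', inv_mul_cancel_left, ← mul_assoc,
        hcomm, mul_assoc, h01] at this
    · refine Or.inl ?_
      have := e0.inv.mul e1
      rwa [mul_assoc t' u', mul_assoc t' u', _root_.mul_inv_rev, _root_.mul_inv_rev, mul_assoc _ t'⁻¹,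
        inv_mul_cancel_left, mul_assoc, inv_mul_cancel_left, h01] at this
  rcases hfin with e | e
  · exact φ.u_not_pm e
  · refine hypm ?_
    have h1 : u' * φ.u = φ.extG ((y : GL (Fin (2 ^ m)) F), -(y : GL (Fin (2 ^ m)) F)) := by
      rw [hu', ← φ.extG_one_neg, ← map_mul, Prod.mk_mul_mk, mul_one, mul_neg_one]
    rw [h1] at e
    rcases e with e | e
    · left
      have h2 := φ.rpG_congr e (φ.extG_comm _ _) (by simp)
      rw [φ.rpG_extG] at h2
      rw [h2]; exact Units.ext (by rw [rpG_val, Units.val_one, φ.rp_one, Units.val_one])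
    · right
      have h2 := φ.rpG_congr e (φ.extG_comm _ _) (by simp)
      rw [φ.rpG_extG] at h2
      rw [h2]; exact Units.ext (by simp [rpG_val, rp, φ.EJ])

end Frame

/-- **The centralisers modulo the centre of the non-central involutions.** -/
theorem cen_invol (hP : SpPauli f R (m + 1)) (hG : Good F m) (hm : 2 ≤ m) {M : Subgroup (GL ι F)} (hN : NN f R ≤ M)
    (hM : M ≤ isoSub f) (hne : M ≠ isoSub f) {u : GL ι F} (hu : u ∈ R) (hpm : ¬ IsPM u) (huu : u * u = 1)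
    {h : GL ι F} (hh : h ∈ M) (hc : h * u * h⁻¹ = u ∨ h * u * h⁻¹ = -u) : h ∈ NN f R := by
  obtain ⟨φ, hφ⟩ := exists_frame hP hu hpm huu
  rcases hc with e | e
  · exact φ.cen_mem hG hm hN hM hne hh (by rw [hφ]; exact mul_inv_eq_iff_eq_mul.1 e)
  · have hw := R_le_NN hP φ.w_mem
    have h1 := φ.cen_mem hG hm hN hM hne (mul_mem (hN hw) hh) (by
      have e' : h * φ.u = -(φ.u * h) := by
        rw [hφ, ← neg_mul]; exact mul_inv_eq_iff_eq_mul.1 e
      rw [mul_assoc, e', mul_neg, ← mul_assoc, ← mul_assoc, φ.anti, neg_mul])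
    have h2 := mul_mem (inv_mem hw) h1
    rwa [inv_mul_cancel_left] at h2

end CfsgLib.Perm.Trans.PauliMax.Symp
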