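import Cfsg.Agent.Lib.Perm.Trans.PauliMax.Symp.Gates
import Mathlib.LinearAlgebra.Matrix.ToLin

/-!
# Coordinates on the two eigenspaces of an involution of the group
-/

set_option autoImplicit false
set_option linter.all false

namespace CfsgLib.Perm.Trans.PauliMax.Symp

open scoped Matrix
open Matrix Cfsg.Geo CfsgLib.Perm.Asch CfsgLib.Perm.Trans
open scoped Classical
open CfsgLib.Perm.Trans.Symp (isoSub mem_isoSub)

variable {ι : Type} [Fintype ι] [DecidableEq ι] {F : Type*} [Field F]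
variable {f : (ι → F) → (ι → F) → F} {R : Subgroup (GL ι F)} {m : ℕ}

/-- the projection on the fixed space -/
def pp (u : GL ι F) : Matrix ι ι F := (1 / 2 : F) • (1 + (u : Matrix ι ι F))

/-- coordinates on the two eigenspaces of `u` exchanged by `w` -/
structure Frame (f : (ι → F) → (ι → F) → F) (R : Subgroup (GL ι F)) (m : ℕ) where
  u : GL ι F
  w : GL ι F
  E : Matrix (Fin (2 ^ m)) ι F
  J : Matrix ι (Fin (2 ^ m)) F
  pauli : SpPauli f R (m + 1)
  u_mem : u ∈ R
  w_mem : w ∈ R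
  uu : u * u = 1
  ww : w * w = 1
  anti : u * w = -(w * u)
  EJ : E * J = 1
  JE : J * E = pp u

/-- a partner of an involution -/
theorem SpPauli.exists_partner (hP : SpPauli f R m) {u : GL ι F} (hu : u ∈ R) (hne : ¬ IsPM u) (huu : u * u = 1) :
    ∃ w ∈ R, w * w = 1 ∧ u * w = -(w * u) := by
  obtain ⟨s, hs, hus⟩ := hP.exists_anti hu hne
  rcases hP.square s hs with h | h
  · exact ⟨s, hs, h, hus⟩
  · refine ⟨u * s, mul_mem hu hs, ?_, ?_⟩
    · rw [show u * s * (u * s) = u * (s * u) * s by group, show s * u = -(u * s) by rw [hus, neg_neg], mul_neg,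
        neg_mul, ← mul_assoc, huu, one_mul, h, neg_neg]
    · rw [← mul_assoc, huu, one_mul, mul_assoc u s u, show s * u = -(u * s) by rw [hus, neg_neg], mul_neg,
        ← mul_assoc, huu, one_mul, neg_neg]

theorem exists_frame [Finite F] (hP : SpPauli f R (m + 1)) {u : GL ι F} (hu : u ∈ R) (hne : ¬ IsPM u)
    (huu : u * u = 1) : ∃ φ : Frame f R m, φ.u = u := by
  obtain ⟨w, hw, hww, hanti⟩ := hP.exists_partner hu hne huu
  set U := (u : Matrix ι ι F) with hU
  set W := (w : Matrix ι ι F) with hW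
  have hUU : U * U = 1 := by rw [hU, ← Units.val_mul, huu, Units.val_one]
  have hWW : W * W = 1 := by rw [hW, ← Units.val_mul, hww, Units.val_one]
  have hUW : U * W = -(W * U) := by rw [hU, hW, ← Units.val_mul, hanti, Units.val_neg, Units.val_mul]
  have h2 := hP.two
  set P := pp u with hPdef
  have hPP : P * P = P := by
    rw [hPdef, pp, smul_mul_assoc, mul_smul_comm, smul_smul, ← hU,
      show (1 + U) * (1 + U) = (2 : F) • (1 + U) by rw [mul_add, mul_one, add_mul, one_mul, hUU, two_smul]; abel,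
      smul_smul]
    congr 1
    field_simp
  have hWP : W * P * W = 1 - P := by
    rw [hPdef, pp, ← hU, mul_smul_comm, smul_mul_assoc, mul_add, add_mul, mul_one, hWW,
      show W * U = -(U * W) by rw [hUW, neg_neg], neg_mul, mul_assoc, hWW, mul_one]
    match_scalars <;> field_simp <;> ring
  set L := Matrix.mulVecLin P with hL
  have hLL : ∀ x, L (L x) = L x := fun x => by rw [hL, Matrix.mulVecLin_apply, Matrix.mulVecLin_apply, Matrix.mulVec_mulVec, hPP]
  have hWW' : ∀ x, W *ᵥ (W *ᵥ x) = x := fun x => by rw [Matrix.mulVec_mulVec, hWW, Matrix.one_mulVec]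
  have hrk : ∀ x, x ∈ LinearMap.range L ↔ P *ᵥ x = x := fun x =>
    ⟨fun ⟨y, hy⟩ => by rw [← hy]; exact hLL y, fun h => ⟨x, h⟩⟩
  have hW1 : ∀ x, P *ᵥ x = x → P *ᵥ (W *ᵥ x) = 0 := fun x hx => by
    have h1 : (W * P * W) *ᵥ (W *ᵥ x) = (1 - P) *ᵥ (W *ᵥ x) := by rw [hWP]
    rw [← Matrix.mulVec_mulVec, ← Matrix.mulVec_mulVec, hWW', hx, Matrix.sub_mulVec, Matrix.one_mulVec] at h1
    exact sub_eq_self.1 h1.symm
  have hW0 : ∀ x, P *ᵥ x = 0 → P *ᵥ (W *ᵥ x) = W *ᵥ x := fun x hx => by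
    have h1 : (W * P * W) *ᵥ x = (1 - P) *ᵥ x := by rw [hWP]
    rw [← Matrix.mulVec_mulVec, ← Matrix.mulVec_mulVec, Matrix.sub_mulVec, Matrix.one_mulVec, hx, sub_zero] at h1
    have := congrArg (W *ᵥ ·) h1
    simpa only [hWW'] using this
  let e : LinearMap.range L ≃ₗ[F] LinearMap.ker L :=
    { toFun := fun x => ⟨W *ᵥ x.1, hW1 _ ((hrk _).1 x.2)⟩
      map_add' := fun x y => Subtype.ext (Matrix.mulVec_add W x.1 y.1)
      map_smul' := fun c x => Subtype.ext (Matrix.mulVec_smul W c x.1)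
      invFun := fun x => ⟨W *ᵥ x.1, (hrk _).2 (hW0 _ x.2)⟩
      left_inv := fun x => Subtype.ext (hWW' _)
      right_inv := fun x => Subtype.ext (hWW' _) }
  have hdim : Module.finrank F (LinearMap.range L) = 2 ^ m := by
    have h1 := LinearMap.finrank_range_add_finrank_ker L
    rw [← e.finrank_eq, Module.finrank_fintype_fun_eq_card, hP.dim, pow_succ] at h1
    omega
  obtain ⟨b⟩ : Nonempty ((Fin (2 ^ m) → F) ≃ₗ[F] LinearMap.range L) :=
    ⟨((Module.finBasisOfFinrankEq F _ hdim).equivFun).symm⟩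
  let j : (Fin (2 ^ m) → F) →ₗ[F] (ι → F) := (LinearMap.range L).subtype ∘ₗ b.toLinearMap
  let e' : (ι → F) →ₗ[F] (Fin (2 ^ m) → F) := b.symm.toLinearMap ∘ₗ L.rangeRestrict
  refine ⟨⟨u, w, LinearMap.toMatrix' e', LinearMap.toMatrix' j, hP, hu, hw, huu, hww, hanti, ?_, ?_⟩, rfl⟩
  · rw [← LinearMap.toMatrix'_comp, show e' ∘ₗ j = LinearMap.id from ?_, LinearMap.toMatrix'_id]
    refine LinearMap.ext fun c => b.injective ?_
    refine Subtype.ext ?_
    simp only [e', j, LinearMap.comp_apply, LinearEquiv.coe_toLinearMap, LinearEquiv.apply_symm_apply, LinearMap.id_apply,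
      Submodule.coe_subtype]
    exact (hrk _).1 (b c).2
  · rw [← LinearMap.toMatrix'_comp, show j ∘ₗ e' = L from ?_, hL, ← Matrix.toLin'_apply', LinearMap.toMatrix'_toLin']
    refine LinearMap.ext fun x => ?_
    simp only [e', j, LinearMap.comp_apply, LinearEquiv.coe_toLinearMap, LinearEquiv.apply_symm_apply,
      Submodule.coe_subtype]
    rfl

variable (φ : Frame f R m)

theorem Frame.P_mul_P : pp φ.u * pp φ.u = pp φ.u := by
  rw [← φ.JE, Matrix.mul_assoc, ← Matrix.mul_assoc φ.E φ.J φ.E, φ.EJ, Matrix.one_mul]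

end CfsgLib.Perm.Trans.PauliMax.Symp
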