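import Cfsg.Agent.Lib.Perm.Trans.PauliMax.Symp.Bar

/-!
# Products of two gates

For `a * a = -1` and `b * b = -1` the element `(1 + a) * (1 + b) / 2` is an isometry normalising the group, and acts
on its binary space as the product of two transvections.
-/

set_option autoImplicit false
set_option linter.all false

namespace CfsgLib.Perm.Trans.PauliMax.Symp

open scoped Matrix
open Matrix Cfsg.Geo CfsgLib.Perm.Asch CfsgLib.Perm.Trans
open scoped Classical
open CfsgLib.Perm.Trans.Symp (isoSub mem_isoSub)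

variable {ι : Type} [Fintype ι] [DecidableEq ι] {F : Type*} [Field F]
variable {f : (ι → F) → (ι → F) → F} {R : Subgroup (GL ι F)} {m : ℕ}

/-- the elements of the maximal subgroup in question -/
def NN (f : (ι → F) → (ι → F) → F) (R : Subgroup (GL ι F)) : Subgroup (GL ι F) :=
  subgroupNormalizer R ⊓ isoSub f

theorem val_neg_one {a : GL ι F} (ha : a * a = -1) : (a : Matrix ι ι F) * a = -1 := by
  rw [← Units.val_mul, ha, Units.val_neg, Units.val_one]

theorem half_inv {A : Matrix ι ι F} (hA : A * A = -1) : (1 + A) * (1 - A) = (2 : F) • 1 := by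
  rw [mul_sub, mul_one, add_mul, one_mul, hA, two_smul]
  abel

theorem half_inv' {A : Matrix ι ι F} (hA : A * A = -1) : (1 - A) * (1 + A) = (2 : F) • 1 := by
  rw [mul_add, mul_one, sub_mul, one_mul, hA, two_smul]
  abel

/-- the product of the two gates -/
def pairGate (hP : SpPauli f R m) {a b : GL ι F} (ha : a * a = -1) (hb : b * b = -1) : GL ι F where
  val := (1 / 2 : F) • ((1 + (a : Matrix ι ι F)) * (1 + (b : Matrix ι ι F)))
  inv := (1 / 2 : F) • ((1 - (b : Matrix ι ι F)) * (1 - (a : Matrix ι ι F)))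
  val_inv := by
    have := hP.two
    rw [smul_mul_assoc, mul_smul_comm, smul_smul, mul_assoc, ← mul_assoc (1 + (b : Matrix ι ι F)),
      half_inv (val_neg_one hb), smul_mul_assoc, one_mul, mul_smul_comm, half_inv (val_neg_one ha), smul_smul,
      smul_smul]
    field_simp
    exact one_smul _ _
  inv_val := by
    have := hP.two
    rw [smul_mul_assoc, mul_smul_comm, smul_smul, mul_assoc, ← mul_assoc (1 - (a : Matrix ι ι F)),
      half_inv' (val_neg_one ha), smul_mul_assoc, one_mul, mul_smul_comm, half_inv' (val_neg_one hb), smul_smul,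
      smul_smul]
    field_simp
    exact one_smul _ _

theorem pairGate_val (hP : SpPauli f R m) {a b : GL ι F} (ha : a * a = -1) (hb : b * b = -1) :
    (pairGate hP ha hb : Matrix ι ι F) = (1 / 2 : F) • ((1 + (a : Matrix ι ι F)) * (1 + (b : Matrix ι ι F))) := rfl

theorem half_form (hP : SpPauli f R m) {a : GL ι F} (haR : a ∈ R) (ha : a * a = -1) (x y : ι → F) :
    f ((1 + (a : Matrix ι ι F)) *ᵥ x) ((1 + (a : Matrix ι ι F)) *ᵥ y) = 2 * f x y := by
  have hf := hP.form
  have hiso := (mem_isoSub (f := f)).1 (hP.iso haR)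
  simp only [Matrix.add_mulVec, Matrix.one_mulVec, hf.bilinear.add_left, hf.bilinear.add_right, hiso]
  have h1 : f x ((a : Matrix ι ι F) *ᵥ y) = -f ((a : Matrix ι ι F) *ᵥ x) y := by
    rw [← hiso x ((a : Matrix ι ι F) *ᵥ y), Matrix.mulVec_mulVec, val_neg_one ha, Matrix.neg_mulVec,
      Matrix.one_mulVec, CfsgLib.Perm.Trans.Symp.neg_right hf]
  rw [h1]
  ring

theorem pairGate_iso (hP : SpPauli f R m) {a b : GL ι F} (haR : a ∈ R) (ha : a * a = -1) (hbR : b ∈ R)
    (hb : b * b = -1) : pairGate hP ha hb ∈ isoSub f := by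
  rw [mem_isoSub]
  intro x y
  have := hP.two
  rw [pairGate_val, Matrix.smul_mulVec, Matrix.smul_mulVec, hP.form.bilinear.smul_left, hP.form.bilinear.smul_right,
    ← Matrix.mulVec_mulVec, ← Matrix.mulVec_mulVec, half_form hP haR ha, half_form hP hbR hb]
  field_simp

/-- conjugation by one gate -/
noncomputable def act (a r : GL ι F) : GL ι F := if a * r = r * a then r else a * r

theorem act_mem {a r : GL ι F} (ha : a ∈ R) (hr : r ∈ R) : act a r ∈ R := by
  unfold act
  split_ifs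
  exacts [hr, mul_mem ha hr]

theorem half_conj (hP : SpPauli f R m) {a r : GL ι F} (haR : a ∈ R) (ha : a * a = -1) (hr : r ∈ R) :
    (1 + (a : Matrix ι ι F)) * r = (act a r : Matrix ι ι F) * (1 + (a : Matrix ι ι F)) := by
  unfold act
  split_ifs with h
  · rw [add_mul, one_mul, mul_add, mul_one, ← Units.val_mul, h, Units.val_mul]
  · have h' := (hP.sign a haR r hr).resolve_left h
    have e : (a : Matrix ι ι F) * r * a = r := by
      rw [← Units.val_mul, h', Units.val_neg, Units.val_mul, neg_mul, mul_assoc, val_neg_one ha, mul_neg, mul_one,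
        neg_neg]
    rw [add_mul, one_mul, Units.val_mul, mul_add, mul_one, e, add_comm]

theorem pairGate_conj (hP : SpPauli f R m) {a b r : GL ι F} (haR : a ∈ R) (ha : a * a = -1) (hbR : b ∈ R)
    (hb : b * b = -1) (hr : r ∈ R) :
    pairGate hP ha hb * r * (pairGate hP ha hb)⁻¹ = act a (act b r) := by
  rw [mul_inv_eq_iff_eq_mul]
  refine Units.ext ?_
  rw [Units.val_mul, Units.val_mul, pairGate_val, smul_mul_assoc, mul_assoc, half_conj hP hbR hb hr, ← mul_assoc,
    half_conj hP haR ha (act_mem hbR hr), mul_smul_comm, mul_assoc]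

theorem mem_normalizer_of_maps [Finite F] {g : GL ι F} (h : ∀ r ∈ R, g * r * g⁻¹ ∈ R) : g ∈ subgroupNormalizer R := by
  haveI : Finite (Matrix ι ι F) := inferInstanceAs (Finite (ι → ι → F))
  haveI : Finite (GL ι F) := Finite.of_injective _ Units.val_injective
  refine Subgroup.mem_normalizer_iff.2 fun r => ⟨h r, fun hr => ?_⟩
  obtain ⟨r', hr'⟩ := Finite.surjective_of_injective
    (f := fun x : R => (⟨_, h x x.2⟩ : R)) (fun a b hab => Subtype.ext (by simpa using hab)) ⟨_, hr⟩
  have := congrArg Subtype.val hr'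
  simp only [mul_left_inj, mul_right_inj] at this
  exact this ▸ r'.2

theorem pairGate_mem [Finite F] (hP : SpPauli f R m) {a b : GL ι F} (haR : a ∈ R) (ha : a * a = -1) (hbR : b ∈ R)
    (hb : b * b = -1) : pairGate hP ha hb ∈ NN f R :=
  ⟨mem_normalizer_of_maps fun r hr => by
      rw [pairGate_conj hP haR ha hbR hb hr]
      exact act_mem haR (act_mem hbR hr),
    pairGate_iso hP haR ha hbR hb⟩

theorem mk_act (hP : SpPauli f R m) (a r : R) :
    mk hP ⟨act (a : GL ι F) r, act_mem a.2 r.2⟩ = Orth.tfun (barB hP) (mk hP a) (mk hP r) := by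
  by_cases h : (a : GL ι F) * r = (r : GL ι F) * a
  · rw [Orth.tfun_fix _ ((barB_zero_iff hP a r).2 h)]
    exact congrArg (mk hP) (Subtype.ext (if_pos h))
  · rw [Orth.tfun_move _ ((Orth.z2 _).resolve_left fun e => h ((barB_zero_iff hP a r).1 e)), add_comm, ← mk_mul]
    exact congrArg (mk hP) (Subtype.ext (if_neg h))

theorem mk_pairGate (hP : SpPauli f R m) {a b : R} (ha : (a : GL ι F) * a = -1) (hb : (b : GL ι F) * b = -1) (r : R)
    {h : pairGate hP ha hb * (r : GL ι F) * (pairGate hP ha hb)⁻¹ ∈ R} :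
    mk hP ⟨_, h⟩ = Orth.tau (space hP) (mk hP a) (Orth.tau (space hP) (mk hP b) (mk hP r)) := by
  rw [Orth.tau_apply, Orth.tau_apply, ← mk_act, ← mk_act hP a ⟨act (b : GL ι F) r, act_mem b.2 r.2⟩]
  exact congrArg (mk hP) (Subtype.ext (pairGate_conj hP a.2 ha b.2 hb r.2))

/-- the normaliser is transitive on the non-central elements of each square -/
theorem exists_conj [Finite F] (hP : SpPauli f R m) (hm : 3 ≤ m) {w w' : GL ι F} (hw : w ∈ R) (hw' : w' ∈ R)
    (hn : ¬ IsPM w) (hn' : ¬ IsPM w') (hsq : w * w = w' * w') :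
    ∃ k ∈ NN f R, k * w * k⁻¹ = w' ∨ k * w * k⁻¹ = -w' := by
  have h64 : 64 ≤ Nat.card (Bar hP) := by
    rw [card_bar]
    calc 64 = 2 ^ (2 * 3) := by norm_num
      _ ≤ 2 ^ (2 * m) := Nat.pow_le_pow_right (by norm_num) (by omega)
  have hq : barQ hP (mk hP ⟨w, hw⟩) = barQ hP (mk hP ⟨w', hw'⟩) := by
    simp only [barQ_mk, hsq]
  let rel : Bar hP → Bar hP → Prop := fun x y => ∀ r : R, mk hP r = x → ∃ k ∈ NN f R, ∃ h : k * r * k⁻¹ ∈ R,
    mk hP ⟨_, h⟩ = y
  have hrel : rel (mk hP ⟨w, hw⟩) (mk hP ⟨w', hw'⟩) := by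
    refine Orth.rel_of_same (space hP) h64 rel ?_ ?_ ?_ (fun e => hn ((mk_eq_zero hP).1 e))
      (fun e => hn' ((mk_eq_zero hP).1 e)) hq
    · intro x r hr
      exact ⟨1, one_mem _, by simp, by rw [← hr]; exact congrArg (mk hP) (Subtype.ext (by simp))⟩
    · intro x y z h1 h2 r hr
      obtain ⟨k, hk, hkr, he⟩ := h1 r hr
      obtain ⟨k', hk', hkr', he'⟩ := h2 _ he
      have e : k' * k * r * (k' * k)⁻¹ = k' * (k * r * k⁻¹) * k'⁻¹ := by group
      exact ⟨k' * k, mul_mem hk' hk, by rw [e]; exact hkr', by rw [← he']; exact congrArg (mk hP) (Subtype.ext e)⟩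
    · intro a b x ha hb r hr
      obtain ⟨a, rfl⟩ := mk_surjective hP a
      obtain ⟨b, rfl⟩ := mk_surjective hP b
      have ha' := (barQ_one_iff hP a).1 ha
      have hb' := (barQ_one_iff hP b).1 hb
      have hg := pairGate_mem hP a.2 ha' b.2 hb'
      refine ⟨_, hg, (Subgroup.mem_normalizer_iff.1 hg.1 r).1 r.2, ?_⟩
      rw [mk_pairGate hP ha' hb' r, hr]
  obtain ⟨k, hk, h, he⟩ := hrel ⟨w, hw⟩ rfl
  rcases (mk_eq hP).1 he with e | e
  · exact ⟨k, hk, Or.inl e.symm⟩
  · exact ⟨k, hk, Or.inr (neg_eq_iff_eq_neg.2 e).symm⟩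

end CfsgLib.Perm.Trans.PauliMax.Symp
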