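import Cfsg.Agent.Lib.Perm.Trans.PauliMax.Symp.Frame

/-!
# Restriction to an eigenspace of an involution of the group
-/

set_option autoImplicit false
set_option linter.all false

namespace CfsgLib.Perm.Trans.PauliMax.Symp

open scoped Matrix
open Matrix Cfsg.Geo CfsgLib.Perm.Asch CfsgLib.Perm.Trans
open scoped Classical
open CfsgLib.Perm.Trans.Symp (isoSub mem_isoSub)

variable {ι : Type} [Fintype ι] [DecidableEq ι] {F : Type*} [Field F]
variable {f : (ι → F) → (ι → F) → F} {R : Subgroup (GL ι F)} {m : ℕ}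

namespace Frame

variable (φ : Frame f R m)

/-- `φ.u` as a matrix -/
abbrev U : Matrix ι ι F := (φ.u : Matrix ι ι F)

/-- `φ.w` as a matrix -/
abbrev W : Matrix ι ι F := (φ.w : Matrix ι ι F)

theorem UU : φ.U * φ.U = 1 := by rw [← Units.val_mul, φ.uu, Units.val_one]

theorem WW : φ.W * φ.W = 1 := by rw [← Units.val_mul, φ.ww, Units.val_one]

theorem WU : φ.W * φ.U = -(φ.U * φ.W) := by
  rw [← Units.val_mul, ← Units.val_mul, φ.anti, Units.val_neg, neg_neg]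

theorem two (φ : Frame f R m) : (2 : F) ≠ 0 := φ.pauli.two

theorem WPW : φ.W * pp φ.u * φ.W = 1 - pp φ.u := by
  have := φ.two
  rw [pp, mul_smul_comm, smul_mul_assoc, mul_add, add_mul, mul_one, φ.WW, φ.WU, neg_mul, mul_assoc, φ.WW, mul_one]
  match_scalars <;> field_simp <;> ring

theorem PWP : pp φ.u * φ.W * pp φ.u = 0 := by
  have h : φ.W * pp φ.u = (1 - pp φ.u) * φ.W := by
    rw [← φ.WPW, mul_assoc _ φ.W φ.W, φ.WW, mul_one]
  rw [mul_assoc, h, ← mul_assoc, mul_sub, mul_one, φ.P_mul_P, sub_self, zero_mul]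

theorem EP : φ.E * pp φ.u = φ.E := by
  rw [← φ.JE, ← Matrix.mul_assoc, φ.EJ, Matrix.one_mul]

theorem PJ : pp φ.u * φ.J = φ.J := by
  rw [← φ.JE, Matrix.mul_assoc, φ.EJ, Matrix.mul_one]

theorem EWJ : φ.E * φ.W * φ.J = 0 := by
  have h : φ.E * φ.W * φ.J = φ.E * (pp φ.u * φ.W * pp φ.u) * φ.J := by
    conv_lhs => rw [← φ.EP, ← φ.PJ]
    simp only [Matrix.mul_assoc]
  rw [h, φ.PWP, Matrix.mul_zero, Matrix.zero_mul]

theorem comm_pp {X : Matrix ι ι F} (h : X * φ.U = φ.U * X) : X * pp φ.u = pp φ.u * X := by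
  rw [pp, mul_smul_comm, smul_mul_assoc, mul_add, add_mul, mul_one, one_mul, h]

/-- restriction to the fixed space -/
def rp (X : Matrix ι ι F) : Matrix (Fin (2 ^ m)) (Fin (2 ^ m)) F := φ.E * X * φ.J

/-- restriction to the negated space -/
def rm (X : Matrix ι ι F) : Matrix (Fin (2 ^ m)) (Fin (2 ^ m)) F := φ.rp (φ.W * X * φ.W)

/-- extension -/
def ext (a b : Matrix (Fin (2 ^ m)) (Fin (2 ^ m)) F) : Matrix ι ι F :=
  φ.J * a * φ.E + φ.W * (φ.J * b * φ.E) * φ.W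

theorem rp_one : φ.rp 1 = 1 := by rw [rp, Matrix.mul_one, φ.EJ]

theorem rp_mul {X Y : Matrix ι ι F} (h : Y * φ.U = φ.U * Y) : φ.rp (X * Y) = φ.rp X * φ.rp Y := by
  have e : φ.rp X * φ.rp Y = φ.E * X * (φ.J * φ.E) * Y * φ.J := by simp only [rp, Matrix.mul_assoc]
  rw [e, φ.JE, Matrix.mul_assoc (φ.E * X) (pp φ.u) Y, ← φ.comm_pp h, ← Matrix.mul_assoc (φ.E * X) Y (pp φ.u),
    Matrix.mul_assoc _ (pp φ.u) φ.J, φ.PJ, rp, ← Matrix.mul_assoc]

theorem rp_ext (a b : Matrix (Fin (2 ^ m)) (Fin (2 ^ m)) F) : φ.rp (φ.ext a b) = a := by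
  have e : φ.rp (φ.ext a b) = (φ.E * φ.J) * a * (φ.E * φ.J) + (φ.E * φ.W * φ.J) * b * (φ.E * φ.W * φ.J) := by
    simp only [rp, ext, Matrix.mul_add, Matrix.add_mul, Matrix.mul_assoc]
  rw [e, φ.EJ, φ.EWJ, Matrix.one_mul, Matrix.mul_one, Matrix.zero_mul, Matrix.zero_mul, add_zero]

theorem W_ext_W (a b : Matrix (Fin (2 ^ m)) (Fin (2 ^ m)) F) : φ.W * φ.ext a b * φ.W = φ.ext b a := by
  rw [ext, ext, mul_add, add_mul, show φ.W * (φ.W * (φ.J * b * φ.E) * φ.W) * φ.W =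
    (φ.W * φ.W) * (φ.J * b * φ.E) * (φ.W * φ.W) by simp only [mul_assoc], φ.WW, one_mul, mul_one, add_comm]

theorem rm_ext (a b : Matrix (Fin (2 ^ m)) (Fin (2 ^ m)) F) : φ.rm (φ.ext a b) = b := by
  rw [rm, φ.W_ext_W, φ.rp_ext]

theorem JrpE (X : Matrix ι ι F) : φ.J * φ.rp X * φ.E = pp φ.u * X * pp φ.u := by
  simp only [rp, ← φ.JE, Matrix.mul_assoc]

theorem ext_rp_rm {X : Matrix ι ι F} (h : X * φ.U = φ.U * X) : φ.ext (φ.rp X) (φ.rm X) = X := by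
  rw [ext, rm, φ.JrpE, φ.JrpE, show φ.W * (pp φ.u * (φ.W * X * φ.W) * pp φ.u) * φ.W =
    (φ.W * pp φ.u * φ.W) * X * (φ.W * pp φ.u * φ.W) by simp only [mul_assoc], φ.WPW, ← φ.comm_pp h, mul_assoc,
    φ.P_mul_P, sub_mul, one_mul, ← φ.comm_pp h, sub_mul, mul_sub, mul_sub, mul_one, mul_one, mul_assoc, φ.P_mul_P]
  abel

theorem ext_mul (a b c d : Matrix (Fin (2 ^ m)) (Fin (2 ^ m)) F) :
    φ.ext a b * φ.ext c d = φ.ext (a * c) (b * d) := by
  have e1 : φ.J * a * φ.E * (φ.J * c * φ.E) = φ.J * (a * c) * φ.E := by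
    rw [show φ.J * a * φ.E * (φ.J * c * φ.E) = φ.J * a * (φ.E * φ.J) * c * φ.E by simp only [Matrix.mul_assoc],
      φ.EJ, Matrix.mul_one, Matrix.mul_assoc φ.J a c]
  have e2 : φ.J * b * φ.E * (φ.J * d * φ.E) = φ.J * (b * d) * φ.E := by
    rw [show φ.J * b * φ.E * (φ.J * d * φ.E) = φ.J * b * (φ.E * φ.J) * d * φ.E by simp only [Matrix.mul_assoc],
      φ.EJ, Matrix.mul_one, Matrix.mul_assoc φ.J b d]
  have e3 : φ.J * a * φ.E * (φ.W * (φ.J * d * φ.E) * φ.W) = 0 := by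
    rw [show φ.J * a * φ.E * (φ.W * (φ.J * d * φ.E) * φ.W) = φ.J * a * (φ.E * φ.W * φ.J) * (d * φ.E * φ.W) by
      simp only [Matrix.mul_assoc], φ.EWJ, Matrix.mul_zero, Matrix.zero_mul]
  have e4 : φ.W * (φ.J * b * φ.E) * φ.W * (φ.J * c * φ.E) = 0 := by
    rw [show φ.W * (φ.J * b * φ.E) * φ.W * (φ.J * c * φ.E) = φ.W * φ.J * b * (φ.E * φ.W * φ.J) * (c * φ.E) by
      simp only [Matrix.mul_assoc], φ.EWJ, Matrix.mul_zero, Matrix.zero_mul]
  rw [ext, ext, ext, add_mul, mul_add, mul_add, e1, e3, e4, add_zero, zero_add,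
    show φ.W * (φ.J * b * φ.E) * φ.W * (φ.W * (φ.J * d * φ.E) * φ.W) =
      φ.W * (φ.J * b * φ.E) * (φ.W * φ.W) * (φ.J * d * φ.E) * φ.W by simp only [mul_assoc],
    φ.WW, mul_one, mul_assoc φ.W, e2]

theorem ext_one : φ.ext 1 1 = 1 := by
  rw [ext, Matrix.mul_one, φ.JE, φ.WPW, add_sub_cancel]

theorem ext_comm (a b : Matrix (Fin (2 ^ m)) (Fin (2 ^ m)) F) : φ.ext a b * φ.U = φ.U * φ.ext a b := by
  have hU : φ.U = φ.ext 1 (-1) := by
    rw [ext, Matrix.mul_one, φ.JE, Matrix.mul_neg, Matrix.neg_mul, Matrix.mul_one, φ.JE, mul_neg, neg_mul, φ.WPW, pp]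
    have := φ.two
    match_scalars <;> field_simp <;> ring
  rw [hU, φ.ext_mul, φ.ext_mul, Matrix.mul_one, Matrix.one_mul, Matrix.mul_neg, Matrix.neg_mul, Matrix.mul_one,
    Matrix.one_mul]

/-- extension of invertible elements -/
def extG : GL (Fin (2 ^ m)) F × GL (Fin (2 ^ m)) F →* GL ι F where
  toFun ab :=
    { val := φ.ext ab.1 ab.2
      inv := φ.ext ((ab.1⁻¹ : GL (Fin (2 ^ m)) F) : Matrix _ _ F) ((ab.2⁻¹ : GL (Fin (2 ^ m)) F) : Matrix _ _ F)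
      val_inv := by rw [φ.ext_mul, Units.mul_inv, Units.mul_inv, φ.ext_one]
      inv_val := by rw [φ.ext_mul, Units.inv_mul, Units.inv_mul, φ.ext_one] }
  map_one' := Units.ext (by simp only [Prod.fst_one, Prod.snd_one, Units.val_one]; exact φ.ext_one)
  map_mul' x y := Units.ext (by
    rw [Units.val_mul]
    exact (φ.ext_mul _ _ _ _).symm)

theorem extG_val (a b : GL (Fin (2 ^ m)) F) : (φ.extG (a, b) : Matrix ι ι F) = φ.ext a b := rfl

theorem extG_comm (a b : GL (Fin (2 ^ m)) F) : φ.extG (a, b) * φ.u = φ.u * φ.extG (a, b) :=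
  Units.ext (by rw [Units.val_mul, Units.val_mul, extG_val]; exact φ.ext_comm _ _)

theorem w_extG (a b : GL (Fin (2 ^ m)) F) : φ.w * φ.extG (a, b) * φ.w = φ.extG (b, a) :=
  Units.ext (by rw [Units.val_mul, Units.val_mul, extG_val, extG_val]; exact φ.W_ext_W _ _)

theorem extG_one_neg : φ.extG (1, -1) = φ.u := Units.ext (by
  have := φ.two
  rw [extG_val, Units.val_neg, Units.val_one, ext, Matrix.mul_one, φ.JE, Matrix.mul_neg, Matrix.neg_mul, Matrix.mul_one,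
    φ.JE, mul_neg, neg_mul, φ.WPW, pp]
  match_scalars <;> field_simp <;> ring)

theorem comm_mat {h : GL ι F} (hc : h * φ.u = φ.u * h) : (h : Matrix ι ι F) * φ.U = φ.U * h := by
  rw [← Units.val_mul, hc, Units.val_mul]

theorem comm_inv {h : GL ι F} (hc : h * φ.u = φ.u * h) : h⁻¹ * φ.u = φ.u * h⁻¹ :=
  ((show Commute h φ.u from hc).inv_left).eq

theorem comm_w {h : GL ι F} (hc : h * φ.u = φ.u * h) : φ.w * h * φ.w * φ.u = φ.u * (φ.w * h * φ.w) := by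
  have h1 : φ.w * φ.u = -(φ.u * φ.w) := by rw [φ.anti, neg_neg]
  calc φ.w * h * φ.w * φ.u = φ.w * h * (φ.w * φ.u) := by group
    _ = -(φ.w * (h * φ.u) * φ.w) := by rw [h1, mul_neg]; group
    _ = -(φ.w * φ.u * h * φ.w) := by rw [hc]; group
    _ = φ.u * (φ.w * h * φ.w) := by rw [h1, neg_mul, neg_mul, neg_neg]; group

/-- restriction of an invertible element commuting with `u` -/
def rpG (h : GL ι F) (hc : h * φ.u = φ.u * h) : GL (Fin (2 ^ m)) F where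
  val := φ.rp h
  inv := φ.rp ((h⁻¹ : GL ι F) : Matrix ι ι F)
  val_inv := by rw [← φ.rp_mul (φ.comm_mat (φ.comm_inv hc)), Units.mul_inv, φ.rp_one]
  inv_val := by rw [← φ.rp_mul (φ.comm_mat hc), Units.inv_mul, φ.rp_one]

theorem rpG_val (h : GL ι F) (hc : h * φ.u = φ.u * h) : (φ.rpG h hc : Matrix _ _ F) = φ.rp h := rfl

theorem rpG_mul {g h : GL ι F} (hg : g * φ.u = φ.u * g) (hh : h * φ.u = φ.u * h) (hgh : g * h * φ.u = φ.u * (g * h)) :
    φ.rpG (g * h) hgh = φ.rpG g hg * φ.rpG h hh :=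
  Units.ext (by rw [Units.val_mul, rpG_val, rpG_val, rpG_val, Units.val_mul, φ.rp_mul (φ.comm_mat hh)])

theorem rpG_extG (a b : GL (Fin (2 ^ m)) F) : φ.rpG _ (φ.extG_comm a b) = a :=
  Units.ext (by rw [rpG_val, extG_val, φ.rp_ext])

theorem rpG_congr {g h : GL ι F} (e : g = h) (hg : g * φ.u = φ.u * g) (hh : h * φ.u = φ.u * h) :
    φ.rpG g hg = φ.rpG h hh := by subst e; rfl

theorem extG_rpG {h : GL ι F} (hc : h * φ.u = φ.u * h) :
    φ.extG (φ.rpG h hc, φ.rpG (φ.w * h * φ.w) (φ.comm_w hc)) = h :=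
  Units.ext (by
    rw [extG_val, rpG_val, rpG_val, Units.val_mul, Units.val_mul]
    exact φ.ext_rp_rm (φ.comm_mat hc))

/-- the form on the fixed space -/
def form : (Fin (2 ^ m) → F) → (Fin (2 ^ m) → F) → F := fun x y => f (φ.J *ᵥ x) (φ.J *ᵥ y)

theorem UJ : φ.U * φ.J = φ.J := by
  have h := φ.PJ
  have h2 := φ.two
  rw [pp, Matrix.smul_mul, Matrix.add_mul, Matrix.one_mul] at h
  have h3 := congrArg (fun X => (2 : F) • X) h
  simp only [smul_smul, show (2 : F) * (1 / 2) = 1 by field_simp, one_smul, two_smul] at h3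
  exact add_left_cancel h3

theorem cross (x y : Fin (2 ^ m) → F) : f (φ.J *ᵥ x) (φ.W *ᵥ (φ.J *ᵥ y)) = 0 := by
  have hf := φ.pauli.form
  have h := (mem_isoSub (f := f)).1 (φ.pauli.iso φ.u_mem) (φ.J *ᵥ x) (φ.W *ᵥ (φ.J *ᵥ y))
  rw [Matrix.mulVec_mulVec _ φ.U φ.J, φ.UJ, Matrix.mulVec_mulVec _ φ.U φ.W, show φ.U * φ.W = -(φ.W * φ.U) by
    rw [φ.WU, neg_neg], Matrix.neg_mulVec, ← Matrix.mulVec_mulVec, Matrix.mulVec_mulVec _ φ.U φ.J, φ.UJ,
    CfsgLib.Perm.Trans.Symp.neg_right hf] at h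
  exact (mul_eq_zero.1 (show (2 : F) * f (φ.J *ᵥ x) (φ.W *ᵥ (φ.J *ᵥ y)) = 0 by linear_combination -h)).resolve_left
    φ.two

theorem decomp (x : ι → F) : x = φ.J *ᵥ (φ.E *ᵥ x) + φ.W *ᵥ (φ.J *ᵥ (φ.E *ᵥ (φ.W *ᵥ x))) := by
  conv_lhs => rw [← Matrix.one_mulVec x, ← φ.ext_one]
  rw [ext, Matrix.mul_one, Matrix.add_mulVec]
  simp only [← Matrix.mulVec_mulVec]

theorem form_pair (a b c d : Fin (2 ^ m) → F) :
    f (φ.J *ᵥ a + φ.W *ᵥ (φ.J *ᵥ b)) (φ.J *ᵥ c + φ.W *ᵥ (φ.J *ᵥ d)) = φ.form a c + φ.form b d := by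
  have hf := φ.pauli.form
  simp only [hf.bilinear.add_left, hf.bilinear.add_right, φ.cross, CfsgLib.Perm.Trans.Symp.swap_zero hf (φ.cross _ _),
    (mem_isoSub (f := f)).1 (φ.pauli.iso φ.w_mem), form, add_zero, zero_add]

theorem isSymplectic : IsSymplecticForm φ.form := by
  have hf := φ.pauli.form
  refine ⟨⟨fun x y v => ?_, fun c x v => ?_, fun v x y => ?_, fun c v x => ?_⟩, fun v w => hf.skew _ _,
    fun v => hf.alternating _, ?_⟩
  · simp only [form, Matrix.mulVec_add, hf.bilinear.add_left]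
  · simp only [form, Matrix.mulVec_smul, hf.bilinear.smul_left]
  · simp only [form, Matrix.mulVec_add, hf.bilinear.add_right]
  · simp only [form, Matrix.mulVec_smul, hf.bilinear.smul_right]
  · intro v hv
    have hJv : φ.J *ᵥ v ≠ 0 := fun e => hv (by
      have := congrArg (φ.E *ᵥ ·) e
      simpa [Matrix.mulVec_mulVec, φ.EJ] using this)
    obtain ⟨⟨x, hx⟩, ⟨y, hy⟩⟩ := hf.nondegenerate (φ.J *ᵥ v) hJv
    refine ⟨⟨φ.E *ᵥ x, fun e => hx ?_⟩, ⟨φ.E *ᵥ y, fun e => hy ?_⟩⟩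
    · rw [φ.decomp x, hf.bilinear.add_left, CfsgLib.Perm.Trans.Symp.swap_zero hf (φ.cross _ _), add_zero]
      exact e
    · rw [φ.decomp y, hf.bilinear.add_right, φ.cross, add_zero]
      exact e

theorem extG_iso {a b : GL (Fin (2 ^ m)) F} (ha : a ∈ isoSub φ.form) (hb : b ∈ isoSub φ.form) :
    φ.extG (a, b) ∈ isoSub f := by
  rw [mem_isoSub]
  intro x y
  have hx : ∀ z, (φ.extG (a, b) : Matrix ι ι F) *ᵥ z = φ.J *ᵥ ((a : Matrix _ _ F) *ᵥ (φ.E *ᵥ z)) +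
      φ.W *ᵥ (φ.J *ᵥ ((b : Matrix _ _ F) *ᵥ (φ.E *ᵥ (φ.W *ᵥ z)))) := fun z => by
    rw [extG_val, ext, Matrix.add_mulVec]
    simp only [← Matrix.mulVec_mulVec]
  rw [hx, hx, φ.form_pair, (mem_isoSub (f := φ.form)).1 ha, (mem_isoSub (f := φ.form)).1 hb, ← φ.form_pair,
    ← φ.decomp, ← φ.decomp]

theorem rpG_iso {h : GL ι F} (hh : h ∈ isoSub f) (hc : h * φ.u = φ.u * h) : φ.rpG h hc ∈ isoSub φ.form := by
  rw [mem_isoSub]
  intro x y
  have hJ : ∀ z, φ.J *ᵥ ((φ.rpG h hc : Matrix _ _ F) *ᵥ z) = (h : Matrix ι ι F) *ᵥ (φ.J *ᵥ z) := fun z => by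
    rw [rpG_val, Matrix.mulVec_mulVec, Matrix.mulVec_mulVec, rp, ← Matrix.mul_assoc, ← Matrix.mul_assoc, φ.JE,
      ← φ.comm_pp (φ.comm_mat hc), Matrix.mul_assoc, φ.PJ]
  show f _ _ = _
  rw [hJ, hJ]
  exact (mem_isoSub (f := f)).1 hh _ _

/-- the group on the fixed space -/
def sub : Subgroup (GL (Fin (2 ^ m)) F) where
  carrier := {a | ∃ t, ∃ hc : t * φ.u = φ.u * t, t ∈ R ∧ φ.rpG t hc = a}
  one_mem' := ⟨1, by simp, R.one_mem, Units.ext (by rw [rpG_val, Units.val_one, φ.rp_one, Units.val_one])⟩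
  mul_mem' := by
    rintro _ _ ⟨s, hs, hsR, rfl⟩ ⟨t, ht, htR, rfl⟩
    exact ⟨s * t, ((show Commute s φ.u from hs).mul_left ht).eq, mul_mem hsR htR, φ.rpG_mul hs ht _⟩
  inv_mem' := by
    rintro _ ⟨s, hs, hsR, rfl⟩
    exact ⟨s⁻¹, φ.comm_inv hs, inv_mem hsR, Units.ext rfl⟩

theorem mem_sub {t : GL ι F} (ht : t ∈ R) (hc : t * φ.u = φ.u * t) : φ.rpG t hc ∈ φ.sub := ⟨t, hc, ht, rfl⟩

theorem wtw {t : GL ι F} (ht : t ∈ R) : φ.w * t * φ.w = t ∨ φ.w * t * φ.w = -t := by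
  rcases φ.pauli.sign φ.w φ.w_mem t ht with h | h
  · left; rw [h, mul_assoc, φ.ww, mul_one]
  · right; rw [h, neg_mul, mul_assoc, φ.ww, mul_one]

/-- an element commuting with `u` is equal on the two eigenspaces up to a sign -/
theorem eq_extG {t : GL ι F} (ht : t ∈ R) (hc : t * φ.u = φ.u * t) :
    φ.extG (φ.rpG t hc, φ.rpG t hc) = t ∨ φ.extG (φ.rpG t hc, φ.rpG t hc) = φ.u * t := by
  have h := φ.extG_rpG hc
  rcases φ.wtw ht with e | e
  · left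
    rwa [φ.rpG_congr e (φ.comm_w hc) hc] at h
  · right
    rw [φ.rpG_congr e (φ.comm_w hc) (by rw [neg_mul, mul_neg, hc]),
      show φ.rpG (-t) (by rw [neg_mul, mul_neg, hc]) = -φ.rpG t hc from Units.ext (by
        rw [rpG_val, Units.val_neg, Units.val_neg, rpG_val, rp, rp, Matrix.mul_neg, Matrix.neg_mul])] at h
    have h2 := congrArg (φ.extG (1, -1) * ·) h
    rw [← map_mul, show ((1 : GL (Fin (2 ^ m)) F), (-1 : GL (Fin (2 ^ m)) F)) * (φ.rpG t hc, -φ.rpG t hc) =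
      (φ.rpG t hc, φ.rpG t hc) by simp, φ.extG_one_neg] at h2
    exact h2

theorem extG_diag_mem {x : GL (Fin (2 ^ m)) F} (hx : x ∈ φ.sub) : φ.extG (x, x) ∈ R := by
  obtain ⟨t, hc, ht, rfl⟩ := hx
  rcases φ.eq_extG ht hc with e | e <;> rw [e]
  exacts [ht, mul_mem φ.u_mem ht]

theorem extG_signs {x : GL (Fin (2 ^ m)) F} (hx : x ∈ φ.sub) :
    φ.extG (x, -x) ∈ R ∧ φ.extG (-x, x) ∈ R := by
  have h1 : φ.extG (x, -x) ∈ R := by
    have e : (x, -x) = ((1 : GL (Fin (2 ^ m)) F), (-1 : GL (Fin (2 ^ m)) F)) * (x, x) := by simp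
    rw [e, map_mul, φ.extG_one_neg]
    exact mul_mem φ.u_mem (φ.extG_diag_mem hx)
  refine ⟨h1, ?_⟩
  have h2 := mul_mem (mul_mem φ.w_mem h1) φ.w_mem
  rwa [φ.w_extG] at h2

end Frame

end CfsgLib.Perm.Trans.PauliMax.Symp
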