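import Cfsg.Agent.Lib.Perm.Trans.PauliMax.Symp.Res

/-!
# The group on the eigenspace and the lifts of its normaliser
-/

set_option autoImplicit false
set_option linter.all false

namespace CfsgLib.Perm.Trans.PauliMax.Symp

open scoped Matrix
open Matrix Cfsg.Geo CfsgLib.Perm.Asch CfsgLib.Perm.Trans
open scoped Classical
open CfsgLib.Perm.Trans.Symp (isoSub mem_isoSub)

variable {ι : Type} [Fintype ι] [DecidableEq ι] {F : Type*} [Field F] [Finite F]
variable {f : (ι → F) → (ι → F) → F} {R : Subgroup (GL ι F)} {m : ℕ}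

namespace Frame

variable (φ : Frame f R m)

omit [Finite F] in
theorem u_not_pm (φ : Frame f R m) : ¬ IsPM φ.u := fun h => by
  have h1 := h.comm φ.w
  have h2 := φ.anti
  rw [← h1] at h2
  exact φ.pauli.neg_ne_self _ h2.symm

omit [Finite F] in
theorem two' (φ : Frame f R m) : (1 : Matrix (Fin (2 ^ m)) (Fin (2 ^ m)) F) ≠ -1 := fun h => φ.two (by
  haveI : Nonempty (Fin (2 ^ m)) := ⟨⟨0, by positivity⟩⟩
  have h' := congrFun (congrFun h (Classical.arbitrary _)) (Classical.arbitrary _)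
  simp at h'
  linear_combination h')

omit [Finite F] in
theorem kernel {t : GL ι F} (ht : t ∈ R) (hc : t * φ.u = φ.u * t) (h : φ.rpG t hc = 1) : t = 1 ∨ t = φ.u := by
  have h1 : (t : Matrix ι ι F) * pp φ.u = pp φ.u := by
    have e : φ.J * φ.rp t * φ.E = pp φ.u := by
      rw [← φ.rpG_val t hc, h, Units.val_one, Matrix.mul_one, φ.JE]
    rwa [φ.JrpE, ← φ.comm_pp (φ.comm_mat hc), mul_assoc, φ.P_mul_P] at e
  have h2 : (t : Matrix ι ι F) + (t : Matrix ι ι F) * φ.U = 1 + φ.U := by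
    rw [pp, mul_smul_comm, mul_add, mul_one] at h1
    exact (isUnit_iff_ne_zero.2 (one_div_ne_zero φ.two)).smul_left_cancel.1 h1
  have h3 := congrArg (fun X => (X * ((t⁻¹ : GL ι F) : Matrix ι ι F)).trace) h2
  have htinv : ∀ Y : Matrix ι ι F, ((t : Matrix ι ι F) * Y * ((t⁻¹ : GL ι F) : Matrix ι ι F)).trace = Y.trace :=
    fun Y => by rw [Matrix.trace_mul_cycle, Units.inv_mul, one_mul]
  simp only [add_mul, one_mul, Matrix.trace_add, htinv, Units.mul_inv] at h3
  rw [show φ.U.trace = 0 from φ.pauli.trace_zero φ.u_mem φ.u_not_pm, add_zero, Matrix.trace_one] at h3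
  by_cases ht1 : tr (t⁻¹ : GL ι F) = 0
  · have ht2 : tr (φ.u * t⁻¹) ≠ 0 := fun e => φ.pauli.natCast_ne (by
      rw [tr, Units.val_mul] at e
      rw [tr] at ht1
      rw [h3, ht1, e, add_zero])
    rcases φ.pauli.trace_pm (mul_mem φ.u_mem (inv_mem ht)) ht2 with e | e
    · exact Or.inr (mul_inv_eq_one.1 e).symm
    · exfalso
      have e' : t = -φ.u := by
        rw [mul_inv_eq_iff_eq_mul, neg_one_mul] at e
        rw [e, neg_neg]
      apply φ.two'
      have h' := congrArg Units.val h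
      simp only [rpG_val, e', Units.val_neg, Units.val_one, rp, Matrix.mul_neg, Matrix.neg_mul, Matrix.mul_assoc,
        φ.UJ, φ.EJ] at h'
      exact h'.symm
  · rcases φ.pauli.trace_pm (inv_mem ht) ht1 with e | e
    · exact Or.inl (inv_eq_one.1 e)
    · exfalso
      have e' : t = -1 := by rw [← inv_inv t, e, inv_neg, inv_one]
      apply φ.two'
      have h' := congrArg Units.val h
      simp only [rpG_val, e', Units.val_neg, Units.val_one, rp, Matrix.mul_neg, Matrix.neg_mul, Matrix.mul_one,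
        φ.EJ] at h'
      exact h'.symm

/-- the centraliser of `u` in the group -/
def cen : Subgroup R where
  carrier := {t | (t : GL ι F) * φ.u = φ.u * (t : GL ι F)}
  one_mem' := by simp
  mul_mem' := fun {a b} ha hb => ((show Commute (a : GL ι F) φ.u from ha).mul_left hb).eq
  inv_mem' := fun {a} ha => φ.comm_inv ha

/-- restriction as a homomorphism -/
def cenHom : φ.cen →* φ.sub where
  toFun t := ⟨φ.rpG ((t : R) : GL ι F) t.2, φ.mem_sub (t : R).2 t.2⟩
  map_one' := Subtype.ext (Units.ext (by simp [rpG_val, φ.rp_one]))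
  map_mul' a b := Subtype.ext (φ.rpG_mul a.2 b.2
    (((show Commute (((a : R) : GL ι F)) φ.u from a.2).mul_left b.2).eq))

omit [Finite F] in
theorem cenHom_surjective : Function.Surjective φ.cenHom := by
  rintro ⟨a, t, hc, ht, rfl⟩
  exact ⟨⟨⟨t, ht⟩, hc⟩, rfl⟩

omit [Finite F] in
theorem card_ker : Nat.card φ.cenHom.ker = 2 := by
  rw [Nat.card_eq_two_iff]
  refine ⟨⟨1, one_mem _⟩, ⟨⟨⟨φ.u, φ.u_mem⟩, rfl⟩, Subtype.ext (Units.ext ?_)⟩, fun e => φ.u_not_pm (Or.inl ?_), ?_⟩
  · show φ.rp φ.U = _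
    rw [rp, Matrix.mul_assoc, φ.UJ, φ.EJ]
    rfl
  · exact (congrArg (fun t : φ.cenHom.ker => (((t : φ.cen) : R) : GL ι F)) e).symm
  · ext ⟨⟨⟨x, hx⟩, hxc⟩, hxk⟩
    simp only [Set.mem_insert_iff, Set.mem_singleton_iff, Set.mem_univ, iff_true]
    rcases φ.kernel hx hxc (congrArg Subtype.val (MonoidHom.mem_ker.1 hxk)) with e | e
    · exact Or.inl (Subtype.ext (Subtype.ext (Subtype.ext e)))
    · exact Or.inr (Subtype.ext (Subtype.ext (Subtype.ext e)))

omit [Finite F] in
theorem card_cen : Nat.card φ.cen = 2 * Nat.card φ.sub := by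
  rw [Subgroup.card_eq_card_quotient_mul_card_subgroup φ.cenHom.ker, φ.card_ker,
    Nat.card_congr (QuotientGroup.quotientKerEquivOfSurjective φ.cenHom φ.cenHom_surjective).toEquiv, mul_comm]

omit [Finite F] in
theorem mul_w_comm {r : GL ι F} (hr : r * φ.u = -(φ.u * r)) : r * φ.w * φ.u = φ.u * (r * φ.w) := by
  have h1 : φ.w * φ.u = -(φ.u * φ.w) := by rw [φ.anti, neg_neg]
  rw [mul_assoc, h1, mul_neg, ← mul_assoc, hr, neg_mul, neg_neg, mul_assoc]

omit [Finite F] in
theorem card_R_eq : Nat.card R = 2 * Nat.card φ.cen := by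
  let g : Bool × φ.cen → R := fun x => if x.1 then (x.2 : R) * ⟨φ.w, φ.w_mem⟩ else (x.2 : R)
  have hcross : ∀ s t : φ.cen, (s : R) * ⟨φ.w, φ.w_mem⟩ ≠ (t : R) := fun s t e => by
    have e' := congrArg (fun z : R => (z : GL ι F)) e
    simp only [Subgroup.coe_mul] at e'
    have h1 : φ.w = ((s : R) : GL ι F)⁻¹ * ((t : R) : GL ι F) := by rw [← e', inv_mul_cancel_left]
    have h2 : φ.w * φ.u = φ.u * φ.w := by
      rw [h1]; exact ((show Commute _ φ.u from φ.comm_inv s.2).mul_left t.2).eq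
    have h3 := φ.anti
    rw [h2] at h3
    exact φ.pauli.neg_ne_self _ h3.symm
  have hg : Function.Bijective g := by
    constructor
    · rintro ⟨i, s⟩ ⟨j, t⟩ h
      cases i <;> cases j <;> simp only [g, if_true, if_false, Bool.false_eq_true] at h
      · rw [Subtype.ext h]
      · exact absurd h.symm (hcross t s)
      · exact absurd h (hcross s t)
      · rw [Subtype.ext (mul_right_cancel h)]
    · intro r
      rcases φ.pauli.sign r r.2 φ.u φ.u_mem with h | h
      · exact ⟨(false, ⟨r, h⟩), by simp [g]⟩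
      · refine ⟨(true, ⟨⟨(r : GL ι F) * φ.w, mul_mem r.2 φ.w_mem⟩, φ.mul_w_comm (r := (r : GL ι F)) h⟩), Subtype.ext ?_⟩
        show (r : GL ι F) * φ.w * φ.w = r
        rw [mul_assoc, φ.ww, mul_one]
  rw [← Nat.card_congr (Equiv.ofBijective g hg), Nat.card_prod, Nat.card_eq_fintype_card, Fintype.card_bool]

omit [Finite F] in
/-- the group on the fixed space satisfies the hypotheses -/
theorem sub_pauli : SpPauli φ.form φ.sub m := by
  refine ⟨φ.isSymplectic, φ.two, ?_, ?_, ?_, ?_, ?_, by simp, ?_, ?_⟩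
  · rintro _ ⟨t, hc, ht, rfl⟩
    exact φ.rpG_iso (φ.pauli.iso ht) hc
  · exact ⟨-1, by simp, φ.pauli.neg, Units.ext (by simp [rpG_val, rp, φ.EJ])⟩
  · rintro _ ⟨s, hs, hsR, rfl⟩ _ ⟨t, ht, htR, rfl⟩
    have hst : s * t * φ.u = φ.u * (s * t) := ((show Commute s φ.u from hs).mul_left ht).eq
    have hts : t * s * φ.u = φ.u * (t * s) := ((show Commute t φ.u from ht).mul_left hs).eq
    rw [← φ.rpG_mul hs ht hst, ← φ.rpG_mul ht hs hts]
    rcases φ.pauli.sign s hsR t htR with h | h
    · exact Or.inl (φ.rpG_congr h _ _)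
    · refine Or.inr (Units.ext ?_)
      rw [rpG_val, Units.val_neg, rpG_val, h, Units.val_neg, rp, rp, Matrix.mul_neg, Matrix.neg_mul]
  · rintro _ ⟨t, hc, ht, rfl⟩
    have htt : t * t * φ.u = φ.u * (t * t) := ((show Commute t φ.u from hc).mul_left hc).eq
    rw [← φ.rpG_mul hc hc htt]
    rcases φ.pauli.square t ht with h | h
    · left; exact Units.ext (by rw [rpG_val, h, Units.val_one, φ.rp_one, Units.val_one])
    · right; exact Units.ext (by rw [rpG_val, h, Units.val_neg, Units.val_neg, Units.val_one, rp, Matrix.mul_neg,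
        Matrix.neg_mul, Matrix.mul_one, φ.EJ, Units.val_one])
  · refine Submodule.eq_top_iff'.2 fun X => ?_
    have hX : φ.J * X * φ.E ∈ Submodule.span F (matrixSet R) := φ.pauli.span.symm ▸ Submodule.mem_top
    have key : ∀ Y ∈ Submodule.span F (matrixSet R), φ.rp Y ∈ Submodule.span F (matrixSet φ.sub) := by
      intro Y hY
      induction hY using Submodule.span_induction with
      | mem y hy =>
        obtain ⟨r, hr, rfl⟩ := hy
        rcases φ.pauli.sign r hr φ.u φ.u_mem with h | h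
        · exact Submodule.subset_span ⟨_, φ.mem_sub hr h, rfl⟩
        · have h0 : φ.rp (r : Matrix ι ι F) = 0 := by
            have h' : φ.U * (r : Matrix ι ι F) = -((r : Matrix ι ι F) * φ.U) := by
              rw [← Units.val_mul, ← Units.val_mul, h, Units.val_neg, neg_neg]
            have e : pp φ.u * (r : Matrix ι ι F) * pp φ.u = 0 := by
              have hh : pp φ.u * (r : Matrix ι ι F) = (r : Matrix ι ι F) * (1 - pp φ.u) := by
                have := φ.two
                rw [pp, smul_mul_assoc, add_mul, one_mul, h', mul_sub, mul_one, mul_smul_comm, mul_add, mul_one]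
                match_scalars <;> field_simp <;> ring
              rw [hh, mul_assoc, sub_mul, one_mul, φ.P_mul_P, sub_self, mul_zero]
            have := congrArg φ.rp e
            rwa [show φ.rp (pp φ.u * (r : Matrix ι ι F) * pp φ.u) = (φ.E * pp φ.u) * (r : Matrix ι ι F) * (pp φ.u * φ.J) by
              simp only [rp, Matrix.mul_assoc], φ.EP, φ.PJ, show φ.rp 0 = 0 by simp [rp]] at this
          rw [show φ.rp (r : Matrix ι ι F) = 0 from h0]
          exact Submodule.zero_mem _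
      | zero => rw [rp, Matrix.mul_zero, Matrix.zero_mul]; exact Submodule.zero_mem _
      | add y z _ _ hy hz => rw [rp, Matrix.mul_add, Matrix.add_mul]; exact Submodule.add_mem _ hy hz
      | smul c y _ hy => rw [rp, Matrix.mul_smul, Matrix.smul_mul]; exact Submodule.smul_mem _ c hy
    have := key _ hX
    rwa [rp, show φ.E * (φ.J * X * φ.E) * φ.J = (φ.E * φ.J) * X * (φ.E * φ.J) by simp only [Matrix.mul_assoc],
      φ.EJ, Matrix.one_mul, Matrix.mul_one] at this
  · have h1 := φ.card_R_eq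
    rw [φ.card_cen, φ.pauli.card, show 1 + 2 * (m + 1) = 1 + 2 * m + 2 by ring, pow_succ, pow_succ] at h1
    omega
  · intro A hA hsq
    let B : Subgroup R := (A.comap φ.cenHom).map φ.cen.subtype
    have hBsq : ∀ x ∈ B, x * x = 1 := by
      rintro _ ⟨⟨⟨t, ht⟩, hc⟩, htA, rfl⟩
      refine Subtype.ext ?_
      show t * t = 1
      have h1 := congrArg (fun z : φ.sub => (z : GL (Fin (2 ^ m)) F)) (hsq _ htA)
      have htt : t * t * φ.u = φ.u * (t * t) := ((show Commute t φ.u from hc).mul_left hc).eq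
      have h2 : φ.rpG (t * t) htt = 1 := by rw [φ.rpG_mul hc hc]; exact h1
      rcases φ.kernel (mul_mem ht ht) htt h2 with e | e
      · exact e
      · exfalso
        exact φ.u_not_pm (e ▸ φ.pauli.square t ht)
    have hBcomm : IsMulCommutative B := ⟨⟨fun a b => Subtype.ext (by
      have h1 := hBsq _ (B.mul_mem a.2 b.2)
      have ha := inv_eq_of_mul_eq_one_right (hBsq _ a.2)
      have hb := inv_eq_of_mul_eq_one_right (hBsq _ b.2)
      rw [Subgroup.coe_mul, Subgroup.coe_mul, ← inv_eq_of_mul_eq_one_right h1, _root_.mul_inv_rev, ha, hb])⟩⟩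
    have h1 := φ.pauli.minus B hBcomm hBsq
    have hB : Nat.card B = 2 * Nat.card A := by
      rw [← Nat.card_congr (Subgroup.equivMapOfInjective _ φ.cen.subtype φ.cen.subtype_injective).toEquiv]
      let ψ : A.comap φ.cenHom →* A := (φ.cenHom.comp (A.comap φ.cenHom).subtype).codRestrict A fun x => x.2
      have hψ : Function.Surjective ψ := fun a => by
        obtain ⟨t, ht⟩ := φ.cenHom_surjective a.1
        exact ⟨⟨t, show φ.cenHom t ∈ A by rw [ht]; exact a.2⟩, Subtype.ext ht⟩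
      have hker : ψ.ker = φ.cenHom.ker.subgroupOf (A.comap φ.cenHom) := by
        ext x
        rw [MonoidHom.mem_ker, Subgroup.mem_subgroupOf, MonoidHom.mem_ker]
        exact ⟨fun e => congrArg Subtype.val e, fun e => Subtype.ext e⟩
      have hle : φ.cenHom.ker ≤ A.comap φ.cenHom := fun x hx => by
        show φ.cenHom x ∈ A
        rw [MonoidHom.mem_ker.1 hx]; exact A.one_mem
      rw [Subgroup.card_eq_card_quotient_mul_card_subgroup ψ.ker,
        Nat.card_congr (QuotientGroup.quotientKerEquivOfSurjective ψ hψ).toEquiv, hker,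
        Nat.card_congr (Subgroup.subgroupOfEquivOfLe hle).toEquiv, φ.card_ker, mul_comm]
    rw [hB, show m + 1 + 1 = (m + 1) + 1 from rfl, pow_succ' 2 (m + 1)] at h1
    omega

theorem sub_conj {a x : GL (Fin (2 ^ m)) F} (ha : a ∈ NN φ.form φ.sub) (hx : x ∈ φ.sub) : a * x * a⁻¹ ∈ φ.sub :=
  (Subgroup.mem_normalizer_iff.1 ha.1 x).1 hx

/-- diagonal lifts -/
theorem diag_mem {a : GL (Fin (2 ^ m)) F} (ha : a ∈ NN φ.form φ.sub) : φ.extG (a, a) ∈ NN f R := by
  refine ⟨mem_normalizer_of_maps fun r hr => ?_, φ.extG_iso ha.2 ha.2⟩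
  have hw : φ.extG (a, a) * φ.w = φ.w * φ.extG (a, a) := by
    have h := φ.w_extG a a
    calc φ.extG (a, a) * φ.w = φ.w * φ.extG (a, a) * φ.w * φ.w := by rw [h]
      _ = φ.w * φ.extG (a, a) := by rw [mul_assoc, φ.ww, mul_one]
  have key : ∀ t ∈ R, t * φ.u = φ.u * t → φ.extG (a, a) * t * (φ.extG (a, a))⁻¹ ∈ R := by
    intro t ht hc
    have hd : φ.extG (a, a) * φ.extG (φ.rpG t hc, φ.rpG t hc) * (φ.extG (a, a))⁻¹ ∈ R := by
      rw [← map_mul, ← map_inv, ← map_mul]
      exact φ.extG_diag_mem (φ.sub_conj ha (φ.mem_sub ht hc))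
    rcases φ.eq_extG ht hc with e | e <;> rw [e] at hd
    · exact hd
    · rw [show φ.extG (a, a) * t * (φ.extG (a, a))⁻¹ = φ.extG (a, a) * φ.u⁻¹ * (φ.extG (a, a))⁻¹ *
        (φ.extG (a, a) * (φ.u * t) * (φ.extG (a, a))⁻¹) by group]
      refine mul_mem ?_ hd
      rw [inv_eq_of_mul_eq_one_right φ.uu, φ.extG_comm, mul_inv_cancel_right]
      exact φ.u_mem
  rcases φ.pauli.sign r hr φ.u φ.u_mem with h | h
  · exact key r hr h
  · have h1 := mul_mem (key (r * φ.w) (mul_mem hr φ.w_mem) (φ.mul_w_comm h)) φ.w_mem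
    have e : φ.extG (a, a) * (r * φ.w) * (φ.extG (a, a))⁻¹ * φ.w = φ.extG (a, a) * r * (φ.extG (a, a))⁻¹ := by
      have hw' : φ.w * (φ.extG (a, a))⁻¹ = (φ.extG (a, a))⁻¹ * φ.w :=
        ((show Commute φ.w (φ.extG (a, a)) from hw.symm).inv_right).eq
      rw [mul_assoc (φ.extG (a, a)), mul_assoc r φ.w, hw', ← mul_assoc r, mul_assoc _ _ φ.w, mul_assoc _ φ.w φ.w,
        φ.ww, mul_one, ← mul_assoc]
    rwa [e] at h1

/-- the elements acting as a group element on the negated space only -/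
theorem one_sub_mem {x : GL (Fin (2 ^ m)) F} (hx : x ∈ φ.sub) : φ.extG (1, x) ∈ NN f R := by
  refine ⟨mem_normalizer_of_maps fun r hr => ?_, φ.extG_iso (one_mem _) (φ.sub_pauli.iso hx)⟩
  have hS := φ.sub_pauli
  have key : ∀ t ∈ R, t * φ.u = φ.u * t → φ.extG (1, x) * t * (φ.extG (1, x))⁻¹ ∈ R := by
    intro t ht hc
    rw [← φ.extG_rpG hc, ← map_mul, ← map_inv, ← map_mul]
    have hy := φ.mem_sub ht hc
    rcases φ.wtw ht with e | e
    · rw [φ.rpG_congr e (φ.comm_w hc) hc]
      rcases hS.mul_mul_inv hx hy with h | h <;> simp only [Prod.mk_mul_mk, Prod.inv_mk, one_mul, inv_one, mul_one, h]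
      exacts [φ.extG_diag_mem hy, (φ.extG_signs hy).1]
    · rw [show φ.rpG (φ.w * t * φ.w) (φ.comm_w hc) = -φ.rpG t hc from Units.ext (by
        rw [rpG_val, Units.val_neg, rpG_val, e, Units.val_neg, rp, rp, Matrix.mul_neg, Matrix.neg_mul])]
      rcases hS.mul_mul_inv hx hy with h | h <;>
        simp only [Prod.mk_mul_mk, Prod.inv_mk, one_mul, inv_one, mul_one, mul_neg, neg_mul, h, neg_neg]
      exacts [(φ.extG_signs hy).1, φ.extG_diag_mem hy]
  rcases φ.pauli.sign r hr φ.u φ.u_mem with h | h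
  · exact key r hr h
  · have hw : φ.extG (1, x) * φ.w * (φ.extG (1, x))⁻¹ ∈ R := by
      have e : φ.extG (1, x) * φ.w * (φ.extG (1, x))⁻¹ = φ.extG (x⁻¹, x) * φ.w := by
        rw [← map_inv, Prod.inv_mk, inv_one, mul_assoc,
          show φ.w * φ.extG (1, x⁻¹) = φ.extG (x⁻¹, 1) * φ.w by
            rw [← φ.w_extG 1 x⁻¹, mul_assoc (φ.w * _), φ.ww, mul_one], ← mul_assoc, ← map_mul, Prod.mk_mul_mk,
          one_mul, mul_one]
      rw [e]
      refine mul_mem ?_ φ.w_mem
      rcases hS.inv_eq hx with h' | h' <;> rw [h']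
      exacts [φ.extG_diag_mem hx, (φ.extG_signs hx).2]
    have h1 := mul_mem (key (r * φ.w) (mul_mem hr φ.w_mem) (φ.mul_w_comm h)) hw
    rw [show φ.extG (1, x) * (r * φ.w) * (φ.extG (1, x))⁻¹ * (φ.extG (1, x) * φ.w * (φ.extG (1, x))⁻¹) =
      φ.extG (1, x) * (r * (φ.w * φ.w)) * (φ.extG (1, x))⁻¹ by group, φ.ww, mul_one] at h1
    exact h1

end Frame

end CfsgLib.Perm.Trans.PauliMax.Symp
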