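import Cfsg.Agent.Lib.Perm.Trans.PauliMax.Symp.CenS
import Cfsg.Agent.Lib.Perm.Elusive.STFour.Basics

/-!
# The hypotheses in terms of symplectic type
-/

set_option autoImplicit false
set_option linter.all false

namespace CfsgLib.Perm.Trans.PauliMax.Symp

open scoped Matrix
open Matrix Cfsg.Geo CfsgLib.Perm.Asch CfsgLib.Perm.Trans
open scoped Classical
open CfsgLib.Perm.Trans.Symp (isoSub mem_isoSub)

variable {ι : Type} [Fintype ι] [DecidableEq ι] {F : Type*} [Field F] [Finite F]
variable {f : (ι → F) → (ι → F) → F} {R : Subgroup (GL ι F)} {m : ℕ}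

omit [Finite F] in
/-- the group acts absolutely irreducibly -/
theorem SpPauli.absIrred (hP : SpPauli f R m) : ActsAbsolutelyIrreducibly (matrixSet R) := by
  refine ⟨fun W hW => ?_, fun X hX => ?_⟩
  · have hall : ∀ Y : Matrix ι ι F, ∀ w ∈ W, Y *ᵥ w ∈ W := by
      intro Y
      have hY : Y ∈ Submodule.span F (matrixSet R) := hP.span.symm ▸ Submodule.mem_top
      induction hY using Submodule.span_induction with
      | mem y hy =>
        intro w hw
        have := hW y hy ⟨w, hw, rfl⟩
        rwa [Matrix.toLin'_apply] at this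
      | zero => intro w _; rw [Matrix.zero_mulVec]; exact W.zero_mem
      | add y z _ _ hy hz => intro w hw; rw [Matrix.add_mulVec]; exact W.add_mem (hy w hw) (hz w hw)
      | smul c y _ hy => intro w hw; rw [Matrix.smul_mulVec]; exact W.smul_mem c (hy w hw)
    by_cases hbot : W = ⊥
    · exact Or.inl hbot
    obtain ⟨w, hw, hw0⟩ := Submodule.exists_mem_ne_zero_of_ne_bot hbot
    obtain ⟨j, hj⟩ : ∃ j, w j ≠ 0 := Function.ne_iff.1 hw0
    refine Or.inr (Submodule.eq_top_iff'.2 fun v => ?_)
    have e : (Matrix.of fun a b => if b = j then v a / w j else 0) *ᵥ w = v := by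
      funext a
      rw [Matrix.mulVec, dotProduct, Finset.sum_eq_single j]
      · simp [hj]
      · intro b _ hb; simp [hb]
      · intro h; exact absurd (Finset.mem_univ j) h
    rw [← e]
    exact hall _ w hw
  · exact hP.scalar_of_commute fun r hr => hX _ ⟨r, hr, rfl⟩

/-- an element of square `-1` not commuting with a given one -/
theorem exists_nonsing_anti {A : Type*} [AddCommGroup A] [Finite A] {Q : A → ZMod 2} {B : A → A → ZMod 2}
    (hS : Orth.Space Q B) (h16 : 16 ≤ Nat.card A) {v : A} (hv : v ≠ 0) : ∃ a, Q a = 1 ∧ B a v = 1 := by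
  obtain ⟨y, hy⟩ := hS.nondeg v hv
  rcases Orth.z2 (Q y) with hq | hq
  · obtain ⟨x, hx, hvx, hyx⟩ := Orth.exists_nonsing_perp hS h16 v y
    exact ⟨y + x, by rw [hS.polar, hq, hx, hyx]; decide, by rw [hS.addl, hS.symm y, hy, hS.symm x, hvx, add_zero]⟩
  · exact ⟨y, hq, by rw [hS.symm, hy]⟩

theorem SpPauli.isSymplecticType (hP : SpPauli f R m) (hm : 2 ≤ m) : IsSymplecticTypeGroup 2 R := by
  haveI : Finite (Matrix ι ι F) := inferInstanceAs (Finite (ι → ι → F))
  haveI : Finite (GL ι F) := Finite.of_injective _ Units.val_injective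
  haveI : Fact (Nat.Prime 2) := ⟨Nat.prime_two⟩
  have hS := space hP
  have h16 := card_bar_ge hP hm
  have hne := hP.neg_one_ne
  refine ⟨Nat.prime_two, IsPGroup.of_card hP.card, fun A hA hcomm => ?_, ?_⟩
  · by_cases hpm : A ≤ pm hP
    · have : Nat.card A ≤ 2 := (Subgroup.card_le_of_le hpm).trans_eq (card_pm hP)
      rcases (show Nat.card A = 1 ∨ Nat.card A = 2 by have := Nat.card_pos (α := A); omega) with h | h
      · haveI : Subsingleton A := (Nat.card_eq_one_iff_unique.1 h).1
        exact isCyclic_of_subsingleton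
      · exact isCyclic_of_prime_card h
    exfalso
    obtain ⟨v, hvA, hv⟩ := Set.not_subset.1 hpm
    have hv0 : Symp.mk hP v ≠ 0 := fun e => hv ((mk_eq_zero hP).1 e)
    obtain ⟨pa, ha, hav⟩ := exists_nonsing_anti hS h16 hv0
    obtain ⟨pb, hb, hvb, -⟩ := Orth.exists_nonsing_perp hS h16 (Symp.mk hP v) (Symp.mk hP v)
    obtain ⟨a, rfl⟩ := mk_surjective hP pa
    obtain ⟨b, rfl⟩ := mk_surjective hP pb
    have ha' := (barQ_one_iff hP a).1 ha
    have hb' := (barQ_one_iff hP b).1 hb
    have hg := pairGate_mem hP a.2 ha' b.2 hb'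
    set g := pairGate hP ha' hb' with hgdef
    let ψ : R ≃* R :=
      { toFun := fun x => ⟨g * x * g⁻¹, nn_conj hg x.2⟩
        invFun := fun x => ⟨g⁻¹ * x * g⁻¹⁻¹, nn_conj (inv_mem hg) x.2⟩
        left_inv := fun x => Subtype.ext (by simp [mul_assoc])
        right_inv := fun x => Subtype.ext (by simp [mul_assoc])
        map_mul' := fun x y => Subtype.ext (by simp [mul_assoc]) }
    have hmem : ψ v ∈ A := by
      have h1 := Subgroup.characteristic_iff_map_le.1 hA ψ
      exact h1 ⟨v, hvA, rfl⟩
    have hmk : Symp.mk hP (ψ v) = Symp.mk hP v + Symp.mk hP a := by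
      show Symp.mk hP ⟨g * (v : GL ι F) * g⁻¹, _⟩ = _
      rw [mk_pairGate hP ha' hb' v, Orth.tau_apply, Orth.tau_apply, Orth.tfun_fix (x := Symp.mk hP v) (Symp.mk hP b) (by rw [hS.symm, hvb]),
        Orth.tfun_move (x := Symp.mk hP v) (Symp.mk hP a) hav]
    have hBcomm : barB hP (Symp.mk hP v) (Symp.mk hP (ψ v)) = 0 :=
      (barB_zero_iff hP _ _).2 (congrArg (fun z : A => ((z : R) : GL ι F)) (hcomm.is_comm.comm ⟨v, hvA⟩ ⟨ψ v, hmem⟩))
    rw [hmk, hS.addr, hS.self, zero_add, hS.symm, hav] at hBcomm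
    exact one_ne_zero hBcomm
  · refine Nat.dvd_antisymm (Monoid.exponent_dvd_iff_forall_pow_eq_one.2 fun x => Subtype.ext ?_) ?_
    · rw [show 2 * Nat.gcd 2 2 = 4 by norm_num, SubgroupClass.coe_pow]
      show (x : GL ι F) ^ 4 = 1
      rw [show 4 = 2 * 2 from rfl, pow_mul, pow_two, pow_two]
      rcases hP.square x x.2 with h | h <;> rw [h] <;> simp
    · obtain ⟨pa, ha, -, -⟩ := Orth.exists_nonsing_perp hS h16 0 0
      obtain ⟨a, rfl⟩ := mk_surjective hP pa
      have ha' := (barQ_one_iff hP a).1 ha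
      refine dvd_trans (dvd_of_eq ?_) (Monoid.order_dvd_exponent a)
      rw [show 2 * Nat.gcd 2 2 = 2 ^ (1 + 1) by norm_num]
      refine (orderOf_eq_prime_pow (p := 2) (n := 1) ?_ ?_).symm
      · intro e
        rw [pow_one, pow_two] at e
        have e' : (a : GL ι F) * a = 1 := congrArg Subtype.val e
        exact hne (ha'.symm.trans e')
      · refine Subtype.ext ?_
        rw [SubgroupClass.coe_pow, show (2 : ℕ) ^ (1 + 1) = 2 * 2 from rfl, pow_mul, pow_two, pow_two, ha']
        simp

omit [Finite F] in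
theorem SpPauli.card_center (hP : SpPauli f R m) : Nat.card (Subgroup.center R) = 2 := by
  rw [← card_pm hP]
  congr 2
  ext x
  rw [Subgroup.mem_center_iff]
  refine ⟨fun h => hP.pm_of_commute (hP.iso x.2) fun r hr => (congrArg Subtype.val (h ⟨r, hr⟩)).symm,
    fun h g => Subtype.ext (IsPM.comm h (g : GL ι F))⟩

/-- the hypotheses from the data of the statements -/
theorem SpPauli.of_data (hf : IsSymplecticForm f) (h2 : (2 : F) ≠ 0) [Nonempty ι] {k : ℕ}
    (hR : IsSymplecticTypeGroup 2 R) (hirr : ActsAbsolutelyIrreducibly (matrixSet R)) (hiso : R ≤ isoSub f)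
    (hcardR : Nat.card R = 2 ^ (1 + 2 * k)) (hZ : Nat.card (Subgroup.center R) = 2) (hminus : IsOfMinusType k R) :
    SpPauli f R k := by
  haveI : Finite (Matrix ι ι F) := inferInstanceAs (Finite (ι → ι → F))
  haveI : Finite (GL ι F) := Finite.of_injective _ Units.val_injective
  haveI : Fintype R := Fintype.ofFinite _
  have hS : CfsgLib.Perm.Elusive.STFour.Setting R := ⟨inferInstance, h2, hR, hirr⟩
  have hscal : ∀ {g : GL ι F}, g ∈ isoSub f → ∀ {c : F}, (g : Matrix ι ι F) = c • 1 → IsPM g := by
    intro g hg c hc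
    obtain ⟨e, he⟩ : ∃ e : ι → F, e ≠ 0 := ⟨1, one_ne_zero⟩
    obtain ⟨h, hh⟩ := ((CfsgLib.Perm.Trans.Symp.isNondegenerateOn_top hf) e Submodule.mem_top he).2
    have h1 := (mem_isoSub (f := f)).1 hg e h
    rw [hc, Matrix.smul_mulVec, Matrix.smul_mulVec, Matrix.one_mulVec, Matrix.one_mulVec,
      hf.bilinear.smul_left, hf.bilinear.smul_right] at h1
    have h2' : c * c = 1 := mul_right_cancel₀ hh.2 (by rw [one_mul, mul_assoc]; exact h1)
    rcases mul_self_eq_one_iff.1 h2' with h | h
    · exact Or.inl (Units.ext (by rw [hc, h, one_smul, Units.val_one]))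
    · exact Or.inr (Units.ext (by rw [hc, h, Units.val_neg, Units.val_one, neg_one_smul]))
  have hneg : (-1 : GL ι F) ∈ R := by
    by_contra hn
    haveI : Subsingleton (Subgroup.center R) := ⟨fun a b => by
      have key : ∀ z : Subgroup.center R, ((z : R) : GL ι F) = 1 := fun z => by
        obtain ⟨c, hc⟩ := (hS.scalar_iff (z : R).2).2 z.2
        exact (hscal (hiso (z : R).2) hc).resolve_right fun e => hn (e ▸ (z : R).2)
      exact Subtype.ext (Subtype.ext ((key a).trans (key b).symm))⟩
    rw [Nat.card_unique] at hZ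
    omega
  have hsign : ∀ r ∈ R, ∀ s ∈ R, r * s = s * r ∨ r * s = -(s * r) := fun r hr s hs =>
    (hS.sign hr hs).imp (fun e => Units.ext (by rw [Units.val_mul, Units.val_mul, e]))
      (fun e => Units.ext (by rw [Units.val_mul, Units.val_neg, Units.val_mul, e]))
  have hsq : ∀ r ∈ R, r * r = 1 ∨ r * r = -1 := fun r hr =>
    (hS.square hr).imp (fun e => Units.ext (by rw [Units.val_mul, e, Units.val_one]))
      (fun e => Units.ext (by rw [Units.val_mul, e, Units.val_neg, Units.val_one]))
  have hcard0 : (Fintype.card R : F) ≠ 0 := by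
    rw [← Nat.card_eq_fintype_card, hcardR, Nat.cast_pow]
    exact pow_ne_zero _ (by exact_mod_cast h2)
  let av : Matrix ι ι F → Matrix ι ι F := fun X =>
    ∑ r : R, ((r : GL ι F) : Matrix ι ι F) * X * (((r : GL ι F)⁻¹ : GL ι F) : Matrix ι ι F)
  have hav : ∀ X, ∃ s : F, av X = s • 1 ∧ (Fintype.card ι : F) * s = (Fintype.card R : F) * X.trace := by
    intro X
    obtain ⟨s, hs⟩ := hirr.2 (av X) (by
      rintro _ ⟨g, hg, rfl⟩
      show (∑ r : R, _) * (g : Matrix ι ι F) = (g : Matrix ι ι F) * ∑ r : R, _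
      rw [Finset.sum_mul, Finset.mul_sum]
      refine Fintype.sum_equiv (Equiv.mulLeft (⟨g, hg⟩ : R)⁻¹) _ _ fun r => ?_
      simp only [Equiv.coe_mulLeft, Subgroup.coe_mul, Subgroup.coe_inv, _root_.mul_inv_rev, inv_inv, Units.val_mul]
      simp only [← mul_assoc, Units.mul_inv, one_mul])
    refine ⟨s, hs, ?_⟩
    have h := congrArg Matrix.trace hs
    rw [Matrix.trace_smul, Matrix.trace_one, smul_eq_mul] at h
    rw [mul_comm, ← h]
    show (∑ r : R, _ : Matrix ι ι F).trace = _
    rw [Matrix.trace_sum, Finset.sum_congr rfl fun r _ => ?_, Finset.sum_const, Finset.card_univ, nsmul_eq_mul]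
    rw [Matrix.trace_mul_comm, ← mul_assoc, Units.inv_mul, one_mul]
  have hnF : (Fintype.card ι : F) ≠ 0 := fun h => by
    obtain ⟨s, -, hs⟩ := hav (Matrix.single (Classical.arbitrary ι) (Classical.arbitrary ι) 1)
    rw [h, zero_mul, Matrix.trace_single_eq_same, mul_one] at hs
    exact hcard0 hs.symm
  have hspan : Submodule.span F (matrixSet R) = ⊤ := by
    have hunit : ∀ b k : ι, Matrix.single b k (1 : F) ∈ Submodule.span F (matrixSet R) := by
      intro b k
      have hmem : ∑ r : R, (((r : GL ι F)⁻¹ : GL ι F) : Matrix ι ι F) k b • ((r : GL ι F) : Matrix ι ι F) ∈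
          Submodule.span F (matrixSet R) :=
        Submodule.sum_mem _ fun r _ => Submodule.smul_mem _ _ (Submodule.subset_span ⟨_, r.2, rfl⟩)
      have he : ∑ r : R, (((r : GL ι F)⁻¹ : GL ι F) : Matrix ι ι F) k b • ((r : GL ι F) : Matrix ι ι F) =
          ((Fintype.card R : F) / (Fintype.card ι : F)) • Matrix.single b k (1 : F) := by
        ext a j
        obtain ⟨s, hs, hns⟩ := hav (Matrix.single j k 1)
        have h := congrFun (congrFun hs a) b
        simp only [av, Matrix.sum_apply, Matrix.smul_apply, Matrix.one_apply, smul_eq_mul] at h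
        simp only [Matrix.sum_apply, Matrix.smul_apply, smul_eq_mul]
        have hterm : ∀ r : R, (((r : GL ι F)⁻¹ : GL ι F) : Matrix ι ι F) k b *
            ((r : GL ι F) : Matrix ι ι F) a j =
          ((((r : GL ι F) : Matrix ι ι F) * Matrix.single j k (1 : F) *
            (((r : GL ι F)⁻¹ : GL ι F) : Matrix ι ι F) : Matrix ι ι F)) a b := by
          intro r
          rw [Matrix.mul_apply, Finset.sum_eq_single k, Matrix.mul_single_apply_same, mul_one, mul_comm]
          · intro x _ hx
            rw [Matrix.mul_single_apply_of_ne _ _ _ _ _ hx, zero_mul]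
          · intro hk; exact absurd (Finset.mem_univ _) hk
        refine ((Finset.sum_congr rfl fun r _ => hterm r).trans h).trans ?_
        by_cases hjk : j = k
        · subst hjk
          rw [Matrix.trace_single_eq_same, mul_one] at hns
          rw [Matrix.single_apply]
          by_cases hab : a = b
          · subst hab
            rw [← hns]
            simp
            field_simp
          · simp [hab, Ne.symm hab]
        · rw [Matrix.trace_single_eq_of_ne _ _ _ hjk, mul_zero] at hns
          rw [(mul_eq_zero.1 hns).resolve_left hnF, Matrix.single_apply]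
          simp [Ne.symm hjk]
      rw [he] at hmem
      exact (Submodule.smul_mem_iff _ (div_ne_zero hcard0 hnF)).1 hmem
    refine Submodule.eq_top_iff'.2 fun X => ?_
    rw [Matrix.matrix_eq_sum_single X]
    refine Submodule.sum_mem _ fun a _ => Submodule.sum_mem _ fun b _ => ?_
    rw [show Matrix.single a b (X a b) = X a b • Matrix.single a b (1 : F) by simp]
    exact Submodule.smul_mem _ _ (hunit a b)
  -- the representatives modulo the centre form a basis
  let Zc : Subgroup R :=
    { carrier := {x | IsPM (x : GL ι F)}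
      one_mem' := Or.inl rfl
      mul_mem' := fun ha hb => IsPM.mul ha hb
      inv_mem' := fun ha => IsPM.inv ha }
  haveI : Fintype (R ⧸ Zc) := Fintype.ofFinite _
  let v : R ⧸ Zc → Matrix ι ι F := fun q => ((q.out : GL ι F) : Matrix ι ι F)
  have htr : ∀ g : GL ι F, g ∈ R → ¬ IsPM g → tr g = 0 := by
    intro g hg hne
    by_contra htr
    refine hne ?_
    obtain ⟨c, hc⟩ := hS.scalar_of_central (g := g) fun y hy => by
      rcases hsign g hg y hy with e | e
      · exact e
      · exfalso
        refine htr ?_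
        have h1 : tr (y * g * y⁻¹) = tr g := by
          simp only [tr, Units.val_mul]
          rw [Matrix.trace_mul_cycle, Units.inv_mul, one_mul]
        rw [show y * g * y⁻¹ = -g by rw [← neg_eq_iff_eq_neg.2 e, neg_mul, mul_inv_cancel_right]] at h1
        simp only [tr, Units.val_neg, Matrix.trace_neg] at h1
        exact (mul_eq_zero.1 (show (2 : F) * tr g = 0 by simp only [tr]; linear_combination -h1)).resolve_left h2
    exact hscal (hiso hg) hc
  have hli : LinearIndependent F v := by
    rw [Fintype.linearIndependent_iff]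
    intro c hc q
    have h1 := congrArg (fun X => (X * (((q.out : GL ι F)⁻¹ : GL ι F) : Matrix ι ι F)).trace) hc
    simp only [Finset.sum_mul, smul_mul_assoc, Matrix.trace_sum, Matrix.trace_smul, zero_mul, Matrix.trace_zero] at h1
    rw [Finset.sum_eq_single q] at h1
    · simp only [v, Units.mul_inv, Matrix.trace_one, smul_eq_mul] at h1
      exact (mul_eq_zero.1 h1).resolve_right hnF
    · intro q' _ hne
      rw [← Units.val_mul, show (((q'.out : GL ι F) * (q.out : GL ι F)⁻¹ : GL ι F) : Matrix ι ι F).trace =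
        tr ((q'.out : GL ι F) * (q.out : GL ι F)⁻¹) from rfl,
        htr _ (mul_mem q'.out.2 (inv_mem q.out.2)) fun hpm => hne ?_, smul_zero]
      rw [← QuotientGroup.out_eq' q', ← QuotientGroup.out_eq' q, QuotientGroup.eq]
      show IsPM ((q'.out⁻¹ * q.out : R) : GL ι F)
      rw [Subgroup.coe_mul, Subgroup.coe_inv]
      have h3 := hpm.inv
      rw [_root_.mul_inv_rev, inv_inv] at h3
      have h4 := h3.comm ((q'.out : GL ι F))⁻¹
      rw [show (q'.out : GL ι F)⁻¹ * (q.out : GL ι F) =
        (q'.out : GL ι F)⁻¹ * ((q.out : GL ι F) * (q'.out : GL ι F)⁻¹) * (q'.out : GL ι F) by group, h4,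
        inv_mul_cancel_right]
      exact h3
    · intro h; exact absurd (Finset.mem_univ q) h
  have htop : Submodule.span F (Set.range v) = ⊤ := by
    rw [eq_top_iff, ← hspan, Submodule.span_le]
    rintro _ ⟨g, hg, rfl⟩
    obtain ⟨z, hz⟩ := QuotientGroup.mk_out_eq_mul Zc (⟨g, hg⟩ : R)
    have hvq : v (QuotientGroup.mk (⟨g, hg⟩ : R)) = ((g * ((z : R) : GL ι F) : GL ι F) : Matrix ι ι F) := by
      show (((QuotientGroup.mk (⟨g, hg⟩ : R) : R ⧸ Zc).out : R) : GL ι F).val = _
      rw [hz, Subgroup.coe_mul]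
    rcases (z.2 : IsPM ((z : R) : GL ι F)) with e | e <;> rw [e] at hvq
    · rw [mul_one] at hvq
      show (g : Matrix ι ι F) ∈ Submodule.span F (Set.range v)
      rw [← hvq]
      exact Submodule.subset_span ⟨_, rfl⟩
    · rw [mul_neg_one, Units.val_neg] at hvq
      rw [SetLike.mem_coe, ← Submodule.neg_mem_iff]
      show -(g : Matrix ι ι F) ∈ Submodule.span F (Set.range v)
      rw [← hvq]
      exact Submodule.subset_span ⟨_, rfl⟩
  have hZc : Nat.card Zc = 2 := by
    rw [Nat.card_eq_two_iff]
    refine ⟨⟨1, Or.inl rfl⟩, ⟨⟨-1, hneg⟩, Or.inr rfl⟩, fun e => ?_, ?_⟩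
    · have e' := (congrArg (fun t : Zc => (((t : R) : GL ι F) : Matrix ι ι F)) e).symm
      simp only [Units.val_neg, Units.val_one] at e'
      exact CfsgLib.Perm.Elusive.STFour.neg_one_ne_one h2 e'
    · ext ⟨⟨x, hx⟩, hxz⟩
      simp only [Set.mem_insert_iff, Set.mem_singleton_iff, Set.mem_univ, iff_true]
      rcases hxz with e | e
      · exact Or.inl (Subtype.ext (Subtype.ext e))
      · exact Or.inr (Subtype.ext (Subtype.ext e))
  have hdim : Fintype.card ι = 2 ^ k := by
    have h := finrank_span_eq_card hli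
    rw [htop, finrank_top, Module.finrank_matrix, Module.finrank_self, mul_one] at h
    have hc2 := Subgroup.card_eq_card_quotient_mul_card_subgroup Zc
    rw [hZc, hcardR, Nat.card_eq_fintype_card, ← h, pow_add,
      show 2 ^ (2 * k) = 2 ^ k * 2 ^ k by rw [← pow_add, two_mul]] at hc2
    exact Nat.mul_self_inj.1 (by omega)
  exact ⟨hf, h2, hiso, hneg, hsign, hsq, hspan, hdim, hcardR, hminus⟩

end CfsgLib.Perm.Trans.PauliMax.Symp
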